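import Cfsg.Agent.E7P.Br.Api_m3
import Cfsg.Agent.ChevFast.E7
import Cfsg.Agent.ChevFast.E8
import Cfsg.Agent.R2.T1.N6D.Out_m3
import Mathlib
import Cfsg.Agent.R2.T1.P3.Q3
import Cfsg.Agent.H944.E7Two
import Cfsg.Agent.ChevFast.Lin
import Cfsg.Agent.FastGrp
import Cfsg.Agent.Prune
set_option linter.all false

section
prune_inst 0x7f00000000000000000000000000000000000000000000000000000000000000000000000000000000000000000000000000000000000000000000000000000000000000000000000000000000000000003ffff77fffffffffffffffffffffaeffbdffffffff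

-- part: E7P/Frm/Weyl
section
set_option linter.all false
open scoped Cfsg.Agent.FastGrp

/-!
# S5932: the Weyl group and the parabolic subgroups (helper32)

* `wv_op`, `wv_inj`, `exists_dom`, `nL_conj_Pl`, `nL_conj_Phi`;
* `mem_Pl_of_tri` : triangular elements lie in the parabolic subgroup; `mem_Ul_of_stri`, `mem_T_of_diag`;
* `rat_le` : integral coweights with the same signs.
-/

set_option autoImplicit false
set_option maxRecDepth 100000

namespace Cfsg.Agent.E7P.Kf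

open Cfsg Cfsg.Lie Matrix Module
open Cfsg.Agent.ChevalleyStructure Cfsg.Agent.ChevalleyStructure.StBasic Cfsg.Agent.H129.StCover
open Cfsg.Agent.ChevalleyStructure.SteinbergKer Cfsg.Agent.ChevalleyStructure.SteinbergBruhat
open Cfsg.Agent.ChevalleyStructure.RootVec
open Cfsg.Agent.H943.E7V.Block (D1 rho)
open Cfsg.Agent.H944.E7Two (e7T)
open Cfsg.Agent.R2.T1

universe u
variable {K : Type u} [Field K]

theorem chk_op : ∀ s < 240, rt chevE8 s 7 = 1 → ∀ i < 7, chevE8.cartan i (st s).1 = - chevE8.cartan i s := by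
  (rewrite [Cfsg.Agent.ChevFast.E8.cartan]; decide +kernel)

theorem wc_op (a : D1) : wc (op a) = - wc a := by
  funext i
  have h := chk_op (nn a) (nn_lt a) (rt_nn a) i i.2
  rw [st_eq] at h
  exact h

theorem wv_op (a : D1) : wv (op a) = - wv a := by rw [wv, wc_op, cv_neg, wv]

/-- a separating functional -/
def wkey (s : ℕ) : ℤ := ((List.range 7).map fun i => 3 ^ i * chevE8.cartan i s).sum

theorem chk_wkey : (((List.range 240).filter fun s => rt chevE8 s 7 = 1).map wkey).Nodup := by (delta Cfsg.Agent.E7P.Kf.wkey; rewrite [Cfsg.Agent.ChevFast.E8.cartan]; decide +kernel)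

theorem wc_inj {a b : D1} (h : wc a = wc b) : a = b := by
  refine nn_inj (List.inj_on_of_nodup_map chk_wkey ?_ ?_ ?_)
  · exact List.mem_filter.2 ⟨List.mem_range.2 (nn_lt a), decide_eq_true (rt_nn a)⟩
  · exact List.mem_filter.2 ⟨List.mem_range.2 (nn_lt b), decide_eq_true (rt_nn b)⟩
  · rw [wkey, wkey, sum7, sum7]
    exact Finset.sum_congr rfl fun i _ => congrArg _ (congrFun h i)

theorem wv_inj {a b : D1} (h : wv a = wv b) : a = b := wc_inj (cv_inj h)

/-- a separating functional -/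
def rkey (s : ℕ) : ℤ := ((List.range 7).map fun i => 5 ^ i * chevE7.cartan i s).sum

theorem chk_rkey : ((List.range 126).map rkey).Nodup := by (delta Cfsg.Agent.E7P.Kf.rkey; rewrite [Cfsg.Agent.ChevFast.E7.cartan]; decide +kernel)

theorem rc_inj {r s : ℕ} (hr : r < 126) (hs : s < 126) (h : rc r = rc s) : r = s := by
  refine List.inj_on_of_nodup_map chk_rkey (List.mem_range.2 hr) (List.mem_range.2 hs) ?_
  rw [rkey, rkey, sum7, sum7]
  exact Finset.sum_congr rfl fun i _ => congrArg _ (congrFun h i)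

theorem rv_inj {r s : ℕ} (hr : r < 126) (hs : s < 126) (h : rv r = rv s) : r = s := rc_inj hr hs (cv_inj h)

theorem eq_of_bf_wv {x y : E} (h : ∀ s, bf x (wv s) = bf y (wv s)) : x = y := by
  have h1 : bf x = bf y := ext_wv h
  funext i
  rw [← bf_al x, ← bf_al y, h1]

theorem wL_rev (l : List (Fin 7)) (x : E) : wL l.reverse (wL l x) = x := by
  induction l generalizing x with
  | nil => rfl
  | cons i l ih => rw [List.reverse_cons, wL_append, wL_cons, wL_cons, wL_nil, sr_sr, ih]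

theorem wL_rev' (l : List (Fin 7)) (x : E) : wL l (wL l.reverse x) = x := by
  have h := wL_rev l.reverse x
  rwa [List.reverse_reverse] at h

theorem wL_ne {l : List (Fin 7)} {x : E} (h : x ≠ 0) : wL l x ≠ 0 := fun h0 => h (by
  rw [← wL_rev l x, h0, map_zero])

theorem bf_wL (l : List (Fin 7)) (x y : E) : bf (wL l x) y = bf x (wL l.reverse y) := by
  rw [← wL_iso l x, wL_rev']

theorem exists_wL_rv (l : List (Fin 7)) {r : ℕ} (hr : r < 126) : ∃ s < 126, wL l (rv r) = rv s :=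
  ⟨_, ((rd good7 ℚ).wW l ⟨r, hr⟩).2, wL_rv (K := ℚ) l ⟨r, hr⟩⟩

theorem exists_wL_wv (l : List (Fin 7)) (a : D1) : ∃ b, wL l (wv a) = wv b := by
  obtain ⟨b, hb⟩ := exists_ne (rho ℚ) (nL ℚ l) a
  exact ⟨b, (wrep_V.mon_nL l b a hb).symm⟩

theorem finite_orbit (β : E) : (Set.range fun l => wL l β).Finite := by
  refine Set.Finite.of_finite_image (f := fun x s => bf x (wv s)) ?_ fun x _ y _ h => eq_of_bf_wv (congrFun h)
  refine (Set.finite_range fun (f : D1 → D1) s => bf β (wv (f s))).subset ?_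
  rintro _ ⟨_, ⟨l, rfl⟩, rfl⟩
  choose f hf using exists_wL_wv l.reverse
  exact ⟨f, funext fun s => by
    show bf β (wv (f s)) = bf (wL l β) (wv s)
    rw [bf_wL, hf]⟩

theorem bf_rho1_al (i : Fin 7) : bf rho1 (al i) = 1 := bf_al _ _

/-- every vector is conjugate to a dominant vector -/
theorem exists_dom (β : E) : ∃ l, Dom (wL l β) := by
  obtain ⟨_, ⟨l, rfl⟩, h⟩ := Set.exists_max_image _ (fun x => bf rho1 x) (finite_orbit β) ⟨_, [], rfl⟩
  refine ⟨l, fun i => ?_⟩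
  have h1 := h _ ⟨i :: l, rfl⟩
  simp only [wL_cons, sr_apply, map_sub, map_smul, bf_rho1_al, smul_eq_mul, mul_one] at h1
  linarith

theorem Phi_mem_Hb (a : Fin chevE7.rank → Kˣ) : Phi K a ∈ Hb chevE7 K := by
  have h : a = ∏ i, Pi.mulSingle i (a i) := (Finset.univ_prod_mulSingle a).symm
  have key : ∀ s : Finset (Fin chevE7.rank), Phi K (∏ i ∈ s, Pi.mulSingle i (a i)) ∈ Hb chevE7 K := by
    intro s
    induction s using Finset.induction_on with
    | empty => rw [Finset.prod_empty, map_one]; exact one_mem _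
    | insert i s hi ih =>
      rw [Finset.prod_insert hi, map_mul, isPhi.single]
      exact mul_mem (Subgroup.subset_closure ⟨i, a i, i.2, (a i).ne_zero, rfl⟩) ih
  rw [h]
  exact key _

theorem nL_conj_Phi (l : List (Fin 7)) (a : Fin chevE7.rank → Kˣ) : ∃ b, nL K l * Phi K a * (nL K l)⁻¹ = Phi K b :=
  Hb_le (axs.conj_nW_H l (Phi_mem_Hb a))

theorem nL_conj_Phi' (l : List (Fin 7)) (a : Fin chevE7.rank → Kˣ) : ∃ b, (nL K l)⁻¹ * Phi K a * nL K l = Phi K b :=
  Hb_le (axs.conj_nW_H' l (Phi_mem_Hb a))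

theorem nL_conj_xs (l : List (Fin 7)) {r : ℕ} (hr : r < 126) (t : K) :
    ∃ s < 126, ∃ v, wL l (rv r) = rv s ∧ nL K l * xs K r t * (nL K l)⁻¹ = xs K s v := by
  obtain ⟨v, hv⟩ := (axs (K := K)).conj_nW l (r := ⟨r, hr⟩) (x := xs K r t) ⟨t, rfl⟩
  exact ⟨_, ((rd good7 K).wW l ⟨r, hr⟩).2, v, wL_rv l ⟨r, hr⟩, hv.symm⟩

theorem nL_conj_xs' (l : List (Fin 7)) {r : ℕ} (hr : r < 126) (t : K) :
    ∃ s < 126, ∃ v, wL l (rv s) = rv r ∧ (nL K l)⁻¹ * xs K r t * nL K l = xs K s v := by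
  obtain ⟨s, hs, h⟩ := exists_wL_rv l.reverse hr
  have h1 : wL l (rv s) = rv r := by rw [← h, wL_rev']
  have h2 : (((rd good7 K).wW l ⟨s, hs⟩ : Fin chevE7.nroots) : ℕ) = r :=
    rv_inj ((rd good7 K).wW l ⟨s, hs⟩).2 hr ((wL_rv l ⟨s, hs⟩).symm.trans h1)
  obtain ⟨v, hv⟩ := (axs (K := K)).conj_nW' l (r := ⟨s, hs⟩) (x := xs K r t) ⟨t, by rw [← h2]; rfl⟩
  exact ⟨s, hs, v, h1, hv.symm⟩

theorem nL_conj_Pl (l : List (Fin 7)) {β : E} {y : Gh K} (hy : y ∈ Pl K β) :
    nL K l * y * (nL K l)⁻¹ ∈ Pl K (wL l β) := by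
  refine Pl_induction (P := fun y => nL K l * y * (nL K l)⁻¹ ∈ Pl K (wL l β)) ?_ ?_ ?_ ?_ hy
  · rw [mul_one, mul_inv_cancel]; exact one_mem _
  · intro x y _ _ hx hy
    have e : nL K l * (x * y) * (nL K l)⁻¹ = nL K l * x * (nL K l)⁻¹ * (nL K l * y * (nL K l)⁻¹) := by group
    rw [e]; exact mul_mem hx hy
  · intro r hr h0 t
    obtain ⟨s, hs, v, h1, h2⟩ := nL_conj_xs l hr t
    rw [h2]
    exact xs_mem_Pl hs (by rw [← h1, wL_iso]; exact h0) v
  · intro a
    obtain ⟨b, hb⟩ := nL_conj_Phi l a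
    rw [hb]; exact Phi_mem_Pl _ b

theorem nL_conj_Pl' (l : List (Fin 7)) {β : E} {y : Gh K} (hy : y ∈ Pl K (wL l β)) :
    (nL K l)⁻¹ * y * nL K l ∈ Pl K β := by
  refine Pl_induction (P := fun y => (nL K l)⁻¹ * y * nL K l ∈ Pl K β) ?_ ?_ ?_ ?_ hy
  · rw [mul_one, inv_mul_cancel]; exact one_mem _
  · intro x y _ _ hx hy
    have e : (nL K l)⁻¹ * (x * y) * nL K l = (nL K l)⁻¹ * x * nL K l * ((nL K l)⁻¹ * y * nL K l) := by group
    rw [e]; exact mul_mem hx hy
  · intro r hr h0 t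
    obtain ⟨s, hs, v, h1, h2⟩ := nL_conj_xs' l hr t
    rw [h2]
    exact xs_mem_Pl hs (by rw [← h1, wL_iso] at h0; exact h0) v
  · intro a
    obtain ⟨b, hb⟩ := nL_conj_Phi' l a
    rw [hb]; exact Phi_mem_Pl _ b

theorem nL_conj_Pl_iff (l : List (Fin 7)) {β : E} {y : Gh K} :
    (nL K l)⁻¹ * y * nL K l ∈ Pl K β ↔ y ∈ Pl K (wL l β) := by
  refine ⟨fun h => ?_, nL_conj_Pl' l⟩
  have h1 := nL_conj_Pl l h
  rwa [show nL K l * ((nL K l)⁻¹ * y * nL K l) * (nL K l)⁻¹ = y by group] at h1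

section
variable {I : Type*} [Fintype I] [DecidableEq I] {c : I → Fin 7 → ℤ} {R : Gh K →* Matrix I I K}

theorem WRep.mon_nL_inv [Infinite K] (h : WRep c R) (l : List (Fin 7)) : Mon c R (nL K l)⁻¹ (wL l.reverse) := by
  intro i j hij
  have h1 := h.dual.mon_nL l j i (by rw [dualR_apply, transpose_apply]; exact hij)
  rw [cv_neg, cv_neg, map_neg, _root_.neg_inj] at h1
  rw [h1, wL_rev]

/-- the entries of a conjugate by a monomial element -/
theorem WRep.conj_nL [Infinite K] (h : WRep c R) (l : List (Fin 7)) {A : Matrix I I K} {i j : I}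
    (hij : (R (nL K l) * A * R (nL K l)⁻¹) i j ≠ 0) :
    ∃ i' j', A i' j' ≠ 0 ∧ cv (c i) = wL l (cv (c i')) ∧ cv (c j) = wL l (cv (c j')) := by
  obtain ⟨j', h1, h2⟩ := exists_mid' hij
  obtain ⟨i', h3, h4⟩ := exists_mid' h1
  exact ⟨i', j', h4, h.mon_nL l _ _ h3, by rw [h.mon_nL_inv l _ _ h2, wL_rev']⟩

end

theorem mem_Pl_of_tri_dom [Infinite K] {β : E} (hβ : Dom β) {y : Gh K}
    (h : ∀ i j, rho K y i j ≠ 0 → bf β (wv j) ≤ bf β (wv i)) : y ∈ Pl K β := by
  obtain ⟨b, b', l, hb, hb', e⟩ := bruhat y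
  have h1 : ∀ i j, rho K (nL K l) i j ≠ 0 → bf β (wv j) ≤ bf β (wv i) := by
    intro i j hij
    rw [show nL K l = b⁻¹ * y * b'⁻¹ by rw [e]; group] at hij
    obtain ⟨j', h1, h2⟩ := exists_mid hij
    obtain ⟨i', h3, h4⟩ := exists_mid h1
    exact ((wrep_V.tri (inv_mem (hb' β hβ)) _ _ h2).trans (h _ _ h4)).trans (wrep_V.tri (inv_mem (hb β hβ)) _ _ h3)
  have h2 : ∀ j, bf β (wv j) ≤ bf (wL l.reverse β) (wv j) := by
    intro j
    obtain ⟨i, hi⟩ := exists_ne (rho K) (nL K l) j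
    rw [bf_wL, List.reverse_reverse]
    have h3 : wv i = wL l (wv j) := wrep_V.mon_nL l i j hi
    rw [← h3]
    exact h1 i j hi
  have h3 : β = wL l.reverse β := eq_of_bf_wv fun s => le_antisymm (h2 s) (by
    have h4 := h2 (op s)
    rw [wv_op, map_neg, map_neg] at h4
    exact neg_le_neg_iff.1 h4)
  have h4 : wL l β = β := by
    conv_lhs => rw [h3]
    exact wL_rev' l β
  rw [e]
  exact mul_mem (mul_mem (hb β hβ) (nL_mem hβ _ l le_rfl h4)) (hb' β hβ)

/-- **triangular elements lie in the parabolic subgroup** -/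
theorem mem_Pl_of_tri [Infinite K] {β : E} {y : Gh K} (h : ∀ i j, rho K y i j ≠ 0 → bf β (wv j) ≤ bf β (wv i)) :
    y ∈ Pl K β := by
  obtain ⟨l, hl⟩ := exists_dom β
  have h1 : nL K l * y * (nL K l)⁻¹ ∈ Pl K (wL l β) := mem_Pl_of_tri_dom hl fun i j hij => by
    rw [map_mul, map_mul] at hij
    obtain ⟨i', j', h1, h2, h3⟩ := wrep_V.conj_nL l hij
    rw [wv, wv, h2, h3, wL_iso, wL_iso]
    exact h i' j' h1
  have h2 := nL_conj_Pl' l h1
  rwa [show (nL K l)⁻¹ * (nL K l * y * (nL K l)⁻¹) * nL K l = y by group] at h2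

theorem mem_Ul_of_stri [Infinite K] {β : E} {y : Gh K} (h : STri β (rho K y - 1)) : y ∈ Ul K β := by
  refine ⟨mem_Pl_of_tri fun i j hij => ?_, h⟩
  by_cases e : i = j
  · rw [e]
  · exact (h i j (by rw [Matrix.sub_apply, one_apply_ne e, sub_zero]; exact hij)).le

theorem nL_conj_Ul [Infinite K] (l : List (Fin 7)) {β : E} {y : Gh K} (hy : y ∈ Ul K β) :
    nL K l * y * (nL K l)⁻¹ ∈ Ul K (wL l β) := by
  refine ⟨nL_conj_Pl l hy.1, fun i j hij => ?_⟩
  have e : rho K (nL K l * y * (nL K l)⁻¹) - 1 = rho K (nL K l) * (rho K y - 1) * rho K (nL K l)⁻¹ := by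
    rw [mul_sub, mul_one, sub_mul, ← map_mul, ← map_mul, ← map_mul, mul_inv_cancel, map_one]
  rw [e] at hij
  obtain ⟨i', j', h1, h2, h3⟩ := wrep_V.conj_nL l hij
  rw [wv, wv, h2, h3, wL_iso, wL_iso]
  exact hy.2 i' j' h1

theorem dom_rho1 : Dom rho1 := fun _ => zero_le_one

theorem rho1_ne {r : ℕ} (hr : r < 126) : bf rho1 (rv r) ≠ 0 := by
  by_cases h : 63 ≤ r
  · exact (rho1_pos hr ((chk_pos r hr).1.1 h)).ne'
  · have h1 := rho1_pos (r := 125 - r) (by omega) ((chk_pos _ (by omega)).1.1 (by omega))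
    rw [rv_neg hr, map_neg] at h1
    exact (neg_pos.1 h1).ne

/-- the Borel subgroup -/
theorem Pl_rho1 {y : Gh K} (hy : y ∈ Pl K rho1) : ∃ x ∈ Ul K rho1, ∃ a, y = x * Phi K a := by
  obtain ⟨x, hx, a, e⟩ := Pl_decomp hy
  exact ⟨x, GS_le (fun r hr t => xs_mem_Ul hr.1 (hr.2.lt_of_ne (rho1_ne hr.1).symm) t) hx, a, e⟩

theorem Pl_rho1_le {β : E} (hβ : Dom β) : Pl K rho1 ≤ Pl K β :=
  Pl_le_of_supp dom_rho1 hβ fun _ h => absurd h one_ne_zero

/-- **diagonal elements lie in the torus** -/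
theorem mem_T_of_diag [Infinite K] {y : Gh K} (h : ∀ i j, rho K y i j ≠ 0 → i = j) : ∃ a, y = Phi K a := by
  obtain ⟨x, hx, a, e⟩ := Pl_rho1 (mem_Pl_of_tri (y := y) fun i j hij => by rw [h i j hij])
  refine ⟨a, ?_⟩
  have h1 : x = 1 := by
    apply rho_injective
    rw [map_one, ← sub_eq_zero]
    ext i j
    by_contra hne
    have h2 := hx.2 i j hne
    by_cases hij : i = j
    · rw [hij] at h2
      exact lt_irrefl _ h2
    · rw [Matrix.zero_apply, Matrix.sub_apply, one_apply_ne hij, sub_zero,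
        show x = y * (Phi K a)⁻¹ by rw [e]; group, ← map_inv] at hne
      obtain ⟨k, h3, h4⟩ := exists_mid hne
      exact hij ((h _ _ h3).trans (wrep_V.eq_of_Phi h4))
  rw [e, h1, one_mul]

/-! ### rational approximation -/

theorem exists_rat {ι : Type*} [Finite ι] (c : ι → Fin 7 → ℤ) (x : Fin 7 → ℝ) : ∃ y : Fin 7 → ℚ, ∀ i,
    (∑ j, (c i j : ℝ) * x j = 0 → ∑ j, (c i j : ℚ) * y j = 0) ∧
      (0 < ∑ j, (c i j : ℝ) * x j → 0 < ∑ j, (c i j : ℚ) * y j) := by
  let W : Submodule ℚ ℝ := Submodule.span ℚ (Set.range x)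
  have : FiniteDimensional ℚ W := FiniteDimensional.span_of_finite ℚ (Set.finite_range x)
  let b := Module.finBasis ℚ W
  let x' : Fin 7 → W := fun j => ⟨x j, Submodule.subset_span ⟨j, rfl⟩⟩
  let v : ι → W := fun i => ∑ j, (c i j : ℚ) • x' j
  have hv : ∀ i, ((v i : W) : ℝ) = ∑ j, (c i j : ℝ) * x j := fun i => by
    simp only [v, x', Submodule.coe_sum, Submodule.coe_smul, Rat.smul_def, Rat.cast_intCast]
  let f : ι → (Fin (finrank ℚ W) → ℝ) → ℝ := fun i t => ∑ k, (b.repr (v i) k : ℝ) * t k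
  have hf : ∀ i, f i (fun k => b k) = v i := fun i => by
    conv_rhs => rw [← b.sum_repr (v i)]
    simp only [f, Submodule.coe_sum, Submodule.coe_smul, Rat.smul_def]
  have hopen : IsOpen (⋂ i, {t | 0 < ((v i : W) : ℝ) → 0 < f i t}) := by
    refine isOpen_iInter_of_finite fun i => ?_
    by_cases h : 0 < ((v i : W) : ℝ)
    · simp only [h, forall_const]
      exact isOpen_lt continuous_const (by fun_prop)
    · simp only [h, false_imp_iff, Set.ofPred_true]
      exact isOpen_univ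
  have hd : DenseRange (Pi.map fun (_ : Fin (finrank ℚ W)) => ((↑) : ℚ → ℝ)) :=
    DenseRange.piMap fun _ => Rat.denseRange_cast
  obtain ⟨q, hq⟩ := hd.exists_mem_open hopen ⟨fun k => b k, Set.mem_iInter.2 fun i h => by rw [hf]; exact h⟩
  have key : ∀ i, ∑ j, (c i j : ℚ) * ∑ k, b.repr (x' j) k * q k = ∑ k, b.repr (v i) k * q k := by
    intro i
    simp only [v, map_sum, map_smul, Finsupp.coe_finsetSum, Finset.sum_apply, Finsupp.smul_apply, smul_eq_mul,
      Finset.mul_sum, Finset.sum_mul, mul_assoc]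
    exact Finset.sum_comm
  refine ⟨fun j => ∑ k, b.repr (x' j) k * q k, fun i => ⟨fun h => ?_, fun h => ?_⟩⟩
  · have h1 : v i = 0 := Subtype.ext (by rw [hv, h]; rfl)
    rw [key, h1]
    simp
  · have h1 : 0 < f i _ := Set.mem_iInter.1 hq i (by rw [hv]; exact h)
    rw [key]
    have h2 : f i (Pi.map (fun _ => ((↑) : ℚ → ℝ)) q) = ((∑ k, b.repr (v i) k * q k : ℚ) : ℝ) := by
      simp [f]
    rw [h2] at h1
    exact_mod_cast h1

theorem bf_cv_eq (β : E) (c : Fin 7 → ℤ) : bf β (cv c) = ∑ j, (c j : ℝ) * bf β (Pi.single j 1) := by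
  have h : cv c = ∑ j, (c j : ℝ) • (Pi.single j 1 : E) := pi_eq_sum_univ' (cv c)
  rw [h, map_sum]
  simp only [map_smul, smul_eq_mul]

/-- **integral coweights with the same signs** -/
theorem exists_int {ι : Type*} [Finite ι] (c : ι → Fin 7 → ℤ) (β : E) : ∃ m : Fin 7 → ℤ, ∀ i,
    (bf β (cv (c i)) = 0 → bf (lE m) (cv (c i)) = 0) ∧ (0 < bf β (cv (c i)) → 0 < bf (lE m) (cv (c i))) := by
  obtain ⟨y, hy⟩ := exists_rat c fun j => bf β (Pi.single j 1)
  obtain ⟨d, hd⟩ := IsLocalization.exist_integer_multiples_of_finite (nonZeroDivisors ℤ) y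
  choose m hm using hd
  have hd0 : (d : ℤ) ≠ 0 := nonZeroDivisors.coe_ne_zero d
  have key : ∀ i, ((∑ j, c i j * (d * m j) : ℤ) : ℚ) = ((d : ℤ) : ℚ) ^ 2 * ∑ j, (c i j : ℚ) * y j := by
    intro i
    push_cast
    rw [Finset.mul_sum]
    refine Finset.sum_congr rfl fun j _ => ?_
    have h1 : ((m j : ℤ) : ℚ) = ((d : ℤ) : ℚ) * y j := by
      have h2 := hm j
      rwa [eq_intCast, zsmul_eq_mul] at h2
    rw [h1]; ring
  refine ⟨fun j => d * m j, fun i => ⟨fun h => ?_, fun h => ?_⟩⟩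
  · rw [bf_cv_eq] at h
    have h1 := key i
    rw [(hy i).1 h, mul_zero] at h1
    rw [bf_lE]
    exact_mod_cast h1
  · rw [bf_cv_eq] at h
    have h1 : (0 : ℚ) < ((∑ j, c i j * (d * m j) : ℤ) : ℚ) := by
      rw [key]
      exact mul_pos (by positivity) ((hy i).2 h)
    rw [bf_lE]
    exact_mod_cast h1

/-- **RAT** -/
theorem rat_le {ι : Type*} [Finite ι] (c : ι → Fin 7 → ℤ) (β : E) : ∃ m : Fin 7 → ℤ, ∀ i j,
    bf (lE m) (cv (c i)) ≤ bf (lE m) (cv (c j)) ↔ bf β (cv (c i)) ≤ bf β (cv (c j)) := by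
  obtain ⟨m, hm⟩ := exists_int (fun x : ι × ι => c x.1 - c x.2) β
  refine ⟨m, fun i j => ⟨fun h => ?_, fun h => ?_⟩⟩
  · by_contra hlt
    have h1 := (hm (i, j)).2
    simp only [cv_sub, map_sub, sub_pos] at h1
    exact absurd (h1 (not_le.1 hlt)) (not_lt.2 h)
  · have h1 := hm (j, i)
    simp only [cv_sub, map_sub, sub_pos, sub_eq_zero] at h1
    rcases h.eq_or_lt with h2 | h2
    · exact (h1.1 h2.symm).ge
    · exact (h1.2 h2).le

end Cfsg.Agent.E7P.Kf

private theorem dce_06bb12de87ce : _root_.True := by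
  try have : _root_.True := by simp only [_root_.Cfsg.Agent.E7P.Kf.wkey.eq_1]
  try have : _root_.True := by simp only [_root_.Cfsg.Agent.E7P.Kf.rkey.eq_1]
  exact _root_.True.intro
end

-- part: E7P/Lie/Exp
section
set_option linter.all false
open scoped Cfsg.Agent.FastGrp

/-!
# S5932, LIE 5: cubes (`p = 3`) and the truncated exponential EXP3 (`p` odd) (helper56)

* `exists_cube_zero`, `cube_fix` : cubes in characteristic `3` (existence: `R2.T2.Alg.exists_cube`);
* `Ex β d y z` : `y ∈ Ul β` and `rho y = 1 + Z + Z² / 2` up to levels `≥ 3 d`; `exp3` : existence;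
* `Ex.ad`, `Ex.vec`, `Ex.ne_one`, `Ex.conj`, `Ex.unique`, `Ex.comm`; `eq_one_of_high`.
-/

set_option autoImplicit false
set_option maxRecDepth 100000

namespace Cfsg.Agent.E7P.Lb

open Cfsg Cfsg.Lie Matrix Module
open Cfsg.Agent.H943.E7V.Block (D1 rho)
open Cfsg.Agent.R2.T1 Cfsg.Agent.E7P.Kf Cfsg.Agent.E7P.Br
open Cfsg.Agent.R2.PX (del)

universe u

variable {K : Type u} [Field K]

/-! ### cubes -/

/-- a set which is closed under cubes and contains a nilpotent element contains an element of cube zero -/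
theorem exists_cube_zero (h3 : (3 : K) = 0) {C : Set (chevE7.Idx → K)}
    (hC : ∀ z ∈ C, ∀ w, del K w = del K z * del K z * del K z → w ∈ C) {z : chevE7.Idx → K} (hz : z ∈ C) (h0 : z ≠ 0)
    (hn : IsNilpotent (del K z)) : ∃ w ∈ C, w ≠ 0 ∧ del K w * del K w * del K w = 0 := by
  obtain ⟨n, hn⟩ := hn
  induction n generalizing z with
  | zero => exact absurd (Mu.del_inj (by rw [← mul_one (del K z), ← pow_zero (del K z), hn, mul_zero])) h0
  | succ n ih =>
    obtain ⟨w, hw⟩ := R2.T2.Alg.exists_cube h3 z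
    by_cases h : w = 0
    · exact ⟨z, hz, h0, by rw [← hw, h, map_zero]⟩
    refine ih (hC z hz w hw) h ?_
    rcases n with _ | n
    · exact absurd (Mu.del_inj (by rwa [zero_add, pow_one] at hn)) h0
    · rw [hw, ← pow_three', ← pow_mul]
      exact pow_eq_zero_of_le (by omega) hn

theorem cube_fix (h2 : (2 : K) ≠ 0) {g : Gh K} {z w : chevE7.Idx → K} (hw : del K w = del K z * del K z * del K z)
    (h : adM K g *ᵥ z = z) : adM K g *ᵥ w = w := by
  have h1 := R2.PX.del_equi h2 g z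
  rw [h] at h1
  refine Mu.del_injective ?_
  have h3 : Commute (rho K g) (del K z) := h1
  rw [del_adM h2, hw, ((h3.mul_right h3).mul_right h3).eq, mul_assoc, ← map_mul (rho K), mul_inv_cancel, map_one, mul_one]

/-- a non-trivial element of the unipotent radical has a power of order `p` -/
theorem exists_pow_p {p : ℕ} (hp : p.Prime) [CharP K p] {β : E} {y : Gh K} (hy : y ∈ Ul K β) (h : y ≠ 1) :
    ∃ n : ℕ, y ^ n ≠ 1 ∧ (y ^ n) ^ p = 1 := by
  have h1 : ∃ k, y ^ p ^ k = 1 := ⟨56, pow_eq_one_of_STri hp hy.2⟩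
  classical
  obtain ⟨k, hk⟩ : ∃ k, Nat.find h1 = k + 1 := Nat.exists_eq_succ_of_ne_zero fun h0 => h (by
    have h2 := Nat.find_spec h1
    rwa [h0, pow_zero, pow_one] at h2)
  refine ⟨p ^ k, Nat.find_min h1 (by omega), ?_⟩
  rw [← pow_mul, ← pow_succ, ← hk]
  exact Nat.find_spec h1

/-! ### the truncated exponential -/

variable {β : E} {c d : ℝ} {x x' z : chevE7.Idx → K} {y y' : Gh K}

theorem Ge_induction (hd : 0 < d) {P : (chevE7.Idx → K) → Prop} (h0 : P 0)
    (ha : ∀ x ∈ Ge K ac β d, ∀ x' ∈ Ge K ac β d, P x → P x' → P (x + x'))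
    (hs : ∀ r : Fin chevE7.nroots, d ≤ bf β (rv r) → ∀ t, P (Pi.single (Sum.inr r) t)) (hz : z ∈ Ge K ac β d) : P z := by
  rw [← Finset.univ_sum_single z]
  refine (Finset.sum_induction _ (fun x => x ∈ Ge K ac β d ∧ P x)
    (fun a b h h' => ⟨add_mem h.1 h'.1, ha a h.1 b h'.1 h.2 h'.2⟩) ⟨zero_mem _, h0⟩ fun i _ => ?_).2
  by_cases h : z i = 0
  · rw [h, Pi.single_zero]
    exact ⟨zero_mem _, h0⟩
  have h1 := hz i h
  refine ⟨fun j hj => ?_, ?_⟩
  · obtain rfl : j = i := by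
      by_contra h2
      exact hj (Pi.single_eq_of_ne h2 _)
    exact h1
  · rcases i with i | r
    · rw [ac_inl, cv_zero, map_zero] at h1
      exact absurd h1 (not_le.2 hd)
    · exact hs r h1 _

theorem eq_zero_of_high (hc : 0 < c) (hM : ∀ r < 126, bf β (rv r) < c) (hz : z ∈ Ge K ac β c) : z = 0 :=
  Ge_induction hc (P := fun z => z = 0) rfl (fun _ _ _ _ h h' => by rw [h, h', add_zero])
    (fun r h => absurd h (not_le.2 (hM r r.2))) hz

theorem tv_mem (β : E) (l : Fin 7 → K) : tv l ∈ Ge K ac β 0 := by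
  rintro (i | r) h
  · rw [ac_inl, cv_zero, map_zero]
  · exact absurd rfl h

theorem del_tv (l : Fin 7 → K) : del K (tv l) = diagonal fun b => ∑ i, l i * (wc b i : K) := by
  rw [R2.PX.del_apply]
  simp only [tv_inr, zero_smul, Finset.sum_const_zero, add_zero]
  ext a b
  rw [Matrix.sum_apply]
  by_cases h : a = b
  · subst h
    rw [diagonal_apply_eq]
    exact Finset.sum_congr rfl fun i _ => by rw [Matrix.smul_apply, R2.PX.Hi, diagonal_apply_eq]; rfl
  · rw [diagonal_apply_ne _ h]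
    exact Finset.sum_eq_zero fun i _ => by rw [Matrix.smul_apply, R2.PX.Hi, diagonal_apply_ne _ h, smul_zero]

/-- the weights of `V` are distinct modulo an odd prime -/
theorem wc_cast_inj (h2 : (2 : K) ≠ 0) {a b : D1} (h : ∀ i, (wc a i : K) = (wc b i : K)) : a = b := by
  refine wc_inj (funext fun i => ?_)
  have h1 := h i
  have h3 : (1 : K) ≠ -1 := fun e => h2 (by linear_combination e)
  unfold wc at h1 ⊢
  rcases R2.T2.Alg.cartan_cases i.2 a with e | e | e <;> rcases R2.T2.Alg.cartan_cases i.2 b with e' | e' | e' <;>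
    rw [e, e'] at h1 ⊢ <;> simp [h3, h3.symm] at h1

/-- a matrix which commutes with the toral elements is diagonal -/
theorem diag_of_tv (h2 : (2 : K) ≠ 0) {A : Matrix D1 D1 K} (h : ∀ l, A * del K (tv l) = del K (tv l) * A) {a b : D1}
    (hab : A a b ≠ 0) : a = b := by
  refine wc_cast_inj h2 fun i => ?_
  have h1 := congrFun (congrFun (h (Pi.single i 1)) a) b
  rw [del_tv, mul_diagonal, diagonal_mul, mul_comm] at h1
  simpa [Pi.single_apply] using (mul_right_cancel₀ hab h1).symm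

theorem adM_sub_mem (h2 : (2 : K) ≠ 0) (hy : y ∈ Pl K β) (h : rho K y * del K x - del K x * rho K y ∈ MGe K wc β c) :
    adM K y *ᵥ x - x ∈ Ge K ac β c := by
  have h1 := MGe_mul h (Pl_MGe wrep_V (inv_mem hy))
  rwa [sub_mul, mul_assoc (del K x), ← map_mul, mul_inv_cancel, map_one, mul_one, ← del_adM h2, ← map_sub, add_zero,
    del_MGe] at h1

/-- an element which raises the levels by more than all roots is trivial -/
theorem eq_one_of_high (h2 : (2 : K) ≠ 0) (hc : 0 < c) (hM : ∀ r < 126, bf β (rv r) < c) (hy : y ∈ Pl K β)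
    (h : rho K y - 1 ∈ MGe K wc β c) : y = 1 := by
  refine rho_injective ?_
  rw [map_one, ← sub_eq_zero]
  ext a b
  by_contra hab
  have h1 := h a b hab
  rw [diag_of_tv h2 (fun l => ?_) hab] at h1
  · linarith
  · have h3 := del_MGe.2 (tv_mem β l)
    have h4 := MGe_mul h h3
    have h5 := MGe_mul h3 h
    rw [add_zero] at h4
    rw [zero_add] at h5
    have h6 := eq_zero_of_high hc hM (adM_sub_mem h2 hy (x := tv l) (by
      convert sub_mem h4 h5 using 1
      noncomm_ring))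
    have h7 := R2.PX.del_equi h2 y (tv l)
    rw [sub_eq_zero.1 h6] at h7
    rw [sub_mul, mul_sub, h7, one_mul, mul_one]

/-- the truncated exponential -/
noncomputable def ex (X : Matrix D1 D1 K) : Matrix D1 D1 K := 1 + X + (2 : K)⁻¹ • (X * X)

/-- `y` is the exponential of `z` up to level `3 d` -/
def Ex (β : E) (d : ℝ) (y : Gh K) (z : chevE7.Idx → K) : Prop :=
  y ∈ Ul K β ∧ rho K y - (1 + del K z + (2 : K)⁻¹ • (del K z * del K z)) ∈ MGe K wc β (3 * d)

theorem ex_mem (hd : 0 < d) {X : Matrix D1 D1 K} (hX : X ∈ MGe K wc β d) : ex X ∈ MGe K wc β 0 :=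
  add_mem (add_mem one_MGe (MGe_mono hd.le hX)) (Submodule.smul_mem _ _ (MGe_mono (by linarith) (MGe_mul hX hX)))

theorem Ex.congr (hd : 0 < d) (h : Ex β d y x) (hx : x ∈ Ge K ac β d) (hx' : x' ∈ Ge K ac β d)
    (h' : x - x' ∈ Ge K ac β (3 * d)) : Ex β d y x' := by
  rw [← del_MGe] at hx hx' h'
  rw [map_sub] at h'
  refine ⟨h.1, ?_⟩
  convert add_mem h.2 (add_mem h' (Submodule.smul_mem _ (2 : K)⁻¹ (add_mem (MGe_mono (by linarith) (MGe_mul hx h'))
    (MGe_mono (by linarith) (MGe_mul h' hx'))))) using 1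
  simp only [mul_sub, sub_mul]
  module

theorem Ex.mul (h2 : (2 : K) ≠ 0) (hd : 0 < d) (h : Ex β d y x) (h' : Ex β d y' x') (hx : x ∈ Ge K ac β d)
    (hx' : x' ∈ Ge K ac β d) : Ex β d (y * y') (x + x' + (2 : K)⁻¹ • br K x x') := by
  have hB := del_MGe.2 (br_Ge hx hx')
  rw [← del_MGe] at hx hx'
  refine ⟨mul_mem h.1 h'.1, ?_⟩
  have a1 := MGe_mul h.2 (Pl_MGe wrep_V h'.1.1)
  have a2 := MGe_mul (ex_mem hd hx) h'.2
  rw [add_zero] at a1
  rw [zero_add] at a2
  have a3 : ∀ {A B C : Matrix D1 D1 K}, A ∈ MGe K wc β d → B ∈ MGe K wc β d → C ∈ MGe K wc β d →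
      A * (B * C) ∈ MGe K wc β (3 * d) := fun hA hB hC => MGe_mono (by linarith) (MGe_mul hA (MGe_mul hB hC))
  have a4 : (del K x + del K x') * del K (br K x x') ∈ MGe K wc β (3 * d) :=
    MGe_mono (by linarith) (MGe_mul (add_mem hx hx') hB)
  have a5 : del K (br K x x') * (del K x + del K x') ∈ MGe K wc β (3 * d) :=
    MGe_mono (by linarith) (MGe_mul hB (add_mem hx hx'))
  have a6 : del K (br K x x') * del K (br K x x') ∈ MGe K wc β (3 * d) := MGe_mono (by linarith) (MGe_mul hB hB)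
  have a7 : del K x * del K x * (del K x' * del K x') ∈ MGe K wc β (3 * d) :=
    MGe_mono (by linarith) (MGe_mul (MGe_mul hx hx) (MGe_mul hx' hx'))
  have a8 := del_br x x'
  rw [map_add, map_add, map_smul, map_mul]
  generalize del K (br K x x') = B at *
  generalize del K x = X at *
  generalize del K x' = X' at *
  have e : (2 : K)⁻¹ * 2 = 1 := inv_mul_cancel₀ h2
  unfold ex at a2
  generalize (2 : K)⁻¹ = t at *
  convert add_mem (add_mem a1 a2) (sub_mem (add_mem (Submodule.smul_mem _ t (add_mem (a3 hx hx' hx') (a3 hx hx hx')))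
    (Submodule.smul_mem _ (t * t) a7)) (add_mem (Submodule.smul_mem _ (t * t) (add_mem a4 a5))
      (Submodule.smul_mem _ (t * t * t) a6))) using 1
  have e1 : X * X' = t • B + t • (X * X' + X' * X) := by
    rw [a8, ← smul_add, sub_add_add_cancel, ← two_smul K, smul_smul, e, one_smul]
  simp only [mul_sub, sub_mul, mul_add, add_mul, one_mul, mul_one, Matrix.smul_mul, Matrix.mul_smul, mul_assoc]
  linear_combination (norm := module) e1

theorem Ex.xs {r : Fin chevE7.nroots} (h : 0 < bf β (rv r)) (d : ℝ) (t : K) :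
    Ex β d (xs K r t) (Pi.single (Sum.inr r) t) := by
  refine ⟨xs_mem_Ul r.2 h t, ?_⟩
  have h1 : del K (Pi.single (Sum.inr r) t) = t • NM K r := by
    rw [← R2.PX.del_inr, ← map_smul, ← Pi.single_smul, smul_eq_mul, mul_one]
  rw [h1, rho_xs' r.2, Matrix.smul_mul, Matrix.mul_smul, R2.PX.NM_mul_self r.2, smul_zero, smul_zero, smul_zero, add_zero,
    sub_self]
  exact zero_mem _

theorem Ex.one (β : E) (d : ℝ) : Ex β d (1 : Gh K) 0 := ⟨one_mem _, by simp⟩

theorem exp_step (h2 : (2 : K) ≠ 0) (hd : 0 < d) (hc : d ≤ c) (H : ∀ u ∈ Ge K ac β (c + c), ∃ y : Gh K, Ex β d y u)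
    (hz : z ∈ Ge K ac β c) : ∃ y, Ex β d y z := by
  refine Ge_induction (hd.trans_le hc) (P := fun z => ∃ y, Ex β d y z) ⟨1, Ex.one β d⟩ ?_
    (fun r h t => ⟨_, Ex.xs (by linarith) d t⟩) hz
  rintro x hx x' hx' ⟨y, hy⟩ ⟨y', hy'⟩
  have a1 := Submodule.smul_mem _ (2 : K)⁻¹ (br_Ge hx hx')
  obtain ⟨y'', hy''⟩ := H _ (neg_mem a1)
  have a2 := Ge_mono hc (add_mem hx hx')
  have a3 := add_mem a2 (Ge_mono (by linarith) a1)
  have a4 : -((2 : K)⁻¹ • br K x x') ∈ Ge K ac β d := Ge_mono (by linarith) (neg_mem a1)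
  have a5 : (2 : K)⁻¹ • br K (x + x' + (2 : K)⁻¹ • br K x x') (-((2 : K)⁻¹ • br K x x')) ∈ Ge K ac β (3 * d) :=
    Submodule.smul_mem _ _ (Ge_mono (by linarith) (br_Ge a3 (neg_mem a1)))
  refine ⟨_, ((hy.mul h2 hd hy' (Ge_mono hc hx) (Ge_mono hc hx')).mul h2 hd hy'' a3 a4).congr hd
    (add_mem (add_mem a3 a4) (Ge_mono (by linarith) a5)) a2 ?_⟩
  rwa [add_neg_cancel_right, add_sub_cancel_left]

/-- **EXP3** -/
theorem exp3 (h2 : (2 : K) ≠ 0) (hd : 0 < d) (hz : z ∈ Ge K ac β d) : ∃ y, Ex β d y z :=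
  exp_step h2 hd le_rfl (fun _ hu => exp_step h2 hd (by linarith) (fun u hu => ⟨1, (Ex.one β d).congr hd (zero_mem _)
    (Ge_mono (by linarith) hu) (by rw [zero_sub]; exact neg_mem (Ge_mono (by linarith) hu))⟩) hu) hz

/-- the action on the elements which commute with `z` -/
theorem Ex.ad (h2 : (2 : K) ≠ 0) (h : Ex β d y z) (hx : x ∈ Ge K ac β c) (hc : Cm z x) :
    adM K y *ᵥ x - x ∈ Ge K ac β (c + 3 * d) := by
  rw [← del_MGe] at hx
  refine adM_sub_mem h2 h.1.1 ?_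
  have h1 := MGe_mul h.2 hx
  rw [add_comm (3 * d)] at h1
  convert sub_mem h1 (MGe_mul hx h.2) using 1
  have h3 : del K z * del K z * del K x = del K x * (del K z * del K z) := by
    rw [mul_assoc, hc, ← mul_assoc, hc, mul_assoc]
  simp only [mul_sub, sub_mul, mul_add, add_mul, one_mul, mul_one, Matrix.smul_mul, Matrix.mul_smul, h3, hc.symm]
  abel

/-- the action on the vectors which are killed by `z` -/
theorem Ex.vec (h : Ex β d y z) {v : D1 → K} (hv : v ∈ Ge K wc β c) (h0 : del K z *ᵥ v = 0) :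
    rho K y *ᵥ v - v ∈ Ge K wc β (c + 3 * d) := by
  have h1 := MGe_mulVec h.2 hv
  rwa [sub_mulVec, add_mulVec, add_mulVec, smul_mulVec, ← mulVec_mulVec, h0, mulVec_zero, smul_zero, add_zero, add_zero,
    one_mulVec] at h1

theorem Ex.ne_one (hd : 0 < d) (h : Ex β d y z) (hz : z ∈ Ge K ac β d) (h0 : z ∉ Ge K ac β (3 * d)) : y ≠ 1 := by
  rintro rfl
  refine h0 (mem_Ge_of_step fun e he h1 => ?_)
  by_cases h3 : e < d
  · exact Ge_le_Gt h3 hz
  rw [← del_MGe] at h1
  rw [← del_MGt]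
  convert sub_mem (neg_mem (MGe_le_MGt he h.2))
    (Submodule.smul_mem _ (2 : K)⁻¹ (MGe_le_MGt (by linarith) (MGe_mul h1 h1))) using 1
  rw [map_one]
  abel

theorem Ex.ne_one' (hd : 0 < d) (hM : ∀ r < 126, bf β (rv r) < 3 * d) (h : Ex β d y z) (hz : z ∈ Ge K ac β d)
    (h0 : z ≠ 0) : y ≠ 1 := h.ne_one hd hz fun h1 => h0 (eq_zero_of_high (by linarith) hM h1)

theorem Ex.conj (h2 : (2 : K) ≠ 0) (h : Ex β d y z) {g : Gh K} (hg : g ∈ Pl K β) : Ex β d (g * y * g⁻¹) (adM K g *ᵥ z) := by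
  refine ⟨Ul_conj hg h.1, ?_⟩
  convert conj_MGe wrep_V hg (inv_mem hg) h.2 using 1
  have h1 : rho K g * rho K g⁻¹ = 1 := by rw [← map_mul, mul_inv_cancel, map_one]
  have h3 : ∀ A, rho K g⁻¹ * (rho K g * A) = A := fun A => by rw [← mul_assoc, ← map_mul, inv_mul_cancel, map_one, one_mul]
  simp only [del_adM h2, map_mul, mul_sub, sub_mul, mul_add, add_mul, mul_one, Matrix.smul_mul, Matrix.mul_smul, mul_assoc,
    h1, h3]

theorem Ex.unique (h2 : (2 : K) ≠ 0) (hd : 0 < d) (hM : ∀ r < 126, bf β (rv r) < 3 * d) (h : Ex β d y z)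
    (h' : Ex β d y' z) : y = y' := by
  refine mul_inv_eq_one.1 (eq_one_of_high h2 (by linarith) hM (mul_mem h.1.1 (inv_mem h'.1.1)) ?_)
  have h1 := MGe_mul (sub_mem h.2 h'.2) (Pl_MGe wrep_V (inv_mem h'.1.1))
  rwa [sub_sub_sub_cancel_right, sub_mul, ← map_mul, ← map_mul, mul_inv_cancel, map_one, add_zero] at h1

theorem Ex.comm (h2 : (2 : K) ≠ 0) (hd : 0 < d) (hM : ∀ r < 126, bf β (rv r) < 3 * d) (h : Ex β d y z) {g : Gh K}
    (hg : g ∈ Pl K β) (hz : adM K g *ᵥ z = z) : g * y = y * g := by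
  have h1 := h.conj h2 hg
  rw [hz] at h1
  exact mul_inv_eq_iff_eq_mul.1 (h1.unique h2 hd hM h)

end Cfsg.Agent.E7P.Lb
end

-- part: E7P/En1/Rat
section
prune_inst 0x8800000000000000000000000000000000000
set_option linter.all false
open scoped Cfsg.Agent.FastGrp

-- part: E7P/En1/Lin
section
/-!
# S5932, END1: graded modules for `sl₂` (linear algebra, helper48)
-/

set_option autoImplicit false
set_option linter.unusedSectionVars false

namespace Cfsg.Agent.E7P.En1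

open Module Finset

variable {k : Type*} [Field k] {I : Type}

variable (k) in
/-- the vectors of level `d` -/
def Lz (lev : I → ℤ) (d : ℤ) : Submodule k (I → k) where
  carrier := {x | ∀ i, x i ≠ 0 → lev i = d}
  zero_mem' := fun _ h => absurd rfl h
  add_mem' := by
    intro x y hx hy i hi
    by_cases h : x i = 0
    · rw [Pi.add_apply, h, zero_add] at hi
      exact hy i hi
    · exact hx i h
  smul_mem' := fun _ _ hx i hi => hx i (right_ne_zero_of_mul hi)

/-- the component of level `d` -/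
def pr (lev : I → ℤ) (d : ℤ) : (I → k) →ₗ[k] (I → k) where
  toFun x i := if lev i = d then x i else 0
  map_add' x y := by
    funext i
    simp only [Pi.add_apply]
    split_ifs <;> simp
  map_smul' c x := by
    funext i
    simp only [Pi.smul_apply, RingHom.id_apply]
    split_ifs <;> simp

variable {lev : I → ℤ} {d d' : ℤ} {x y : I → k}

theorem pr_apply (x : I → k) (i : I) : pr lev d x i = if lev i = d then x i else 0 := rfl

theorem pr_mem (x : I → k) : pr lev d x ∈ Lz k lev d := fun i hi => by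
  by_contra h
  exact hi (if_neg h)

theorem pr_of_mem (hx : x ∈ Lz k lev d) : pr lev d x = x := by
  funext i
  rw [pr_apply]
  split_ifs with h
  · rfl
  · by_contra h1
    exact h (hx i (Ne.symm h1))

theorem pr_of_ne (hx : x ∈ Lz k lev d) (h : d ≠ d') : pr lev d' x = 0 := by
  funext i
  rw [pr_apply]
  split_ifs with h1
  · by_contra h2
    exact h ((hx i h2).symm.trans h1)
  · rfl

theorem eq_zero_of_pr (h : ∀ d, pr lev d x = 0) : x = 0 := by
  funext i
  have h1 := congrFun (h (lev i)) i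
  rwa [pr_apply, if_pos rfl] at h1

theorem mem_cast (hx : x ∈ Lz k lev d) (h : d = d') : x ∈ Lz k lev d' := h ▸ hx

variable [Fintype I] [DecidableEq I]

theorem single_mem (lev : I → ℤ) (i : I) (c : k) : (Pi.single i c : I → k) ∈ Lz k lev (lev i) := fun j hj => by
  by_cases h : j = i
  · rw [h]
  · exact absurd (by rw [Pi.single_eq_of_ne h]) hj

theorem lz_induction (lev : I → ℤ) {P : (I → k) → Prop} (h0 : P 0) (ha : ∀ x y, P x → P y → P (x + y))
    (h : ∀ i, x i ≠ 0 → ∀ y ∈ Lz k lev (lev i), P y) : P x := by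
  rw [← univ_sum_single x]
  refine sum_induction _ P ha h0 fun i _ => ?_
  by_cases h1 : x i = 0
  · rw [h1, Pi.single_zero]
    exact h0
  · exact h i h1 _ (single_mem lev i _)

/-- homogeneous maps commute with the projections -/
theorem pr_map {J : Type} {lev' : J → ℤ} {f : (I → k) →ₗ[k] (J → k)} {a : ℤ}
    (hf : ∀ d, ∀ x ∈ Lz k lev d, f x ∈ Lz k lev' (d + a)) (d : ℤ) (x : I → k) :
    pr lev' (d + a) (f x) = f (pr lev d x) := by
  refine lz_induction lev (P := fun x => pr lev' (d + a) (f x) = f (pr lev d x)) (by simp)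
    (fun x y hx hy => by simp only [map_add, hx, hy]) fun i _ y hy => ?_
  by_cases h : lev i = d
  · rw [h] at hy
    rw [pr_of_mem hy, pr_of_mem (hf d y hy)]
  · rw [pr_of_ne hy h, pr_of_ne (hf _ y hy) (by omega), map_zero]

/-- the number of basis vectors of level `d` -/
def mm (lev : I → ℤ) (d : ℤ) : ℕ := (univ.filter fun i => lev i = d).card

theorem finrank_Lz (lev : I → ℤ) (d : ℤ) : finrank k (Lz k lev d) = mm lev d := by
  let e : Lz k lev d ≃ₗ[k] ({i // lev i = d} → k) :=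
    { toFun := fun x i => x.1 i.1
      map_add' := fun _ _ => rfl
      map_smul' := fun _ _ => rfl
      invFun := fun y => ⟨fun i => if h : lev i = d then y ⟨i, h⟩ else 0, fun i hi => by
        by_contra h
        exact hi (dif_neg h)⟩
      left_inv := fun x => by
        refine Subtype.ext (funext fun i => ?_)
        show (if h : lev i = d then x.1 i else 0) = x.1 i
        split_ifs with h
        · rfl
        · by_contra h1
          exact h (x.2 i (Ne.symm h1))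
      right_inv := fun y => funext fun i => dif_pos i.2 }
  rw [e.finrank_eq, finrank_fintype_fun_eq_card, Fintype.card_subtype, mm]

theorem exists_of_mm (h : mm lev d ≠ 0) : ∃ x ∈ Lz k lev d, x ≠ 0 := by
  obtain ⟨i, hi⟩ := card_ne_zero.1 h
  refine ⟨Pi.single i 1, mem_cast (single_mem lev i 1) (mem_filter.1 hi).2, fun e => ?_⟩
  simpa using congrFun e i

section Abs
variable {M N P : Type*} [AddCommGroup M] [Module k M] [AddCommGroup N] [Module k N] [AddCommGroup P] [Module k P]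

theorem le_of_inj2 [FiniteDimensional k N] [FiniteDimensional k P] (A : Submodule k M) (f : M →ₗ[k] N) (g : M →ₗ[k] P)
    (U : Submodule k N) (W : Submodule k P) (hf : ∀ x ∈ A, f x ∈ U) (hg : ∀ x ∈ A, g x ∈ W)
    (h : ∀ x ∈ A, f x = 0 → g x = 0 → x = 0) : finrank k A ≤ finrank k U + finrank k W := by
  rw [← finrank_prod]
  refine LinearMap.finrank_le_finrank_of_injective (f := (f.restrict hf).prod (g.restrict hg)) ?_
  rw [injective_iff_map_eq_zero]
  intro x hx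
  exact Subtype.ext (h x.1 x.2 (congrArg (fun z => z.1.1) hx) (congrArg (fun z => z.2.1) hx))

theorem cas0 [FiniteDimensional k N] [FiniteDimensional k P] (φ : M →ₗ[k] P) (ψ : P →ₗ[k] N)
    (hφ : Function.Injective φ) (h : ∀ x, ψ (φ x) = 0) (W : Submodule k N) (hW : W ≤ LinearMap.range ψ) :
    finrank k M + finrank k W ≤ finrank k P := by
  have h1 := LinearMap.finrank_range_add_finrank_ker ψ
  have h2 := Submodule.finrank_mono hW
  have h3 : LinearMap.range φ ≤ LinearMap.ker ψ := by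
    rintro _ ⟨x, rfl⟩
    exact h x
  have h4 := Submodule.finrank_mono h3
  rw [LinearMap.finrank_range_of_inj hφ] at h4
  omega

end Abs

/-- a graded self-dual module for `sl₂` -/
structure Sl (lev : I → ℤ) (E F : (I → k) →ₗ[k] (I → k)) (B : (I → k) →ₗ[k] (I → k) →ₗ[k] k) : Prop where
  up : ∀ d, ∀ x ∈ Lz k lev d, E x ∈ Lz k lev (d + 2)
  dn : ∀ d, ∀ x ∈ Lz k lev d, F x ∈ Lz k lev (d - 2)
  ef : ∀ d, ∀ x ∈ Lz k lev d, E (F x) = F (E x) + (d : k) • x
  nd : ∀ y, (∀ x, B x y = 0) → y = 0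
  orth : ∀ a b, a + b ≠ 0 → ∀ x ∈ Lz k lev a, ∀ y ∈ Lz k lev b, B x y = 0
  skE : ∀ x y, B (E x) y = - B x (E y)
  skF : ∀ x y, B (F x) y = - B x (F y)

/-- no vector of level `d` is killed by `E` and `F` -/
def Kz (lev : I → ℤ) (E F : (I → k) →ₗ[k] (I → k)) (d : ℤ) : Prop := ∀ x ∈ Lz k lev d, E x = 0 → F x = 0 → x = 0

namespace Sl

variable {E F : (I → k) →ₗ[k] (I → k)} {B : (I → k) →ₗ[k] (I → k) →ₗ[k] k} (h : Sl lev E F B)
include h

theorem B_pr (hx : x ∈ Lz k lev d) (y : I → k) : B x y = B x (pr lev (-d) y) := by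
  refine lz_induction lev (P := fun y => B x y = B x (pr lev (-d) y)) (by simp)
    (fun x y hx hy => by simp only [map_add, hx, hy]) fun i _ y hy => ?_
  by_cases h1 : lev i = -d
  · rw [h1] at hy
    rw [pr_of_mem hy]
  · rw [pr_of_ne hy h1, map_zero, h.orth _ _ (by omega) x hx y hy]

theorem nd_lv (hy : y ∈ Lz k lev (-d)) (h0 : ∀ x ∈ Lz k lev d, B x y = 0) : y = 0 := by
  refine h.nd y fun x => lz_induction lev (P := fun x => B x y = 0) (by simp)
    (fun x y hx hy => by rw [map_add, LinearMap.add_apply, hx, hy, add_zero]) fun i _ x hx => ?_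
  by_cases h1 : lev i = d
  · exact h0 x (mem_cast hx h1)
  · exact h.orth _ _ (by omega) x hx y hy

theorem exists_perp {U : Submodule k (I → k)} (hU : ¬ Lz k lev d ≤ U) :
    ∃ y ∈ Lz k lev (-d), y ≠ 0 ∧ ∀ u ∈ U, u ∈ Lz k lev d → B u y = 0 := by
  obtain ⟨x, hx, hxU⟩ := SetLike.not_le_iff_exists.1 hU
  obtain ⟨φ, h1, h2⟩ := U.exists_le_ker_of_notMem hxU
  have h3 : Function.Injective B.flip := (injective_iff_map_eq_zero _).2 fun y hy =>
    h.nd y fun x => LinearMap.congr_fun hy x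
  obtain ⟨y, rfl⟩ := (LinearMap.injective_iff_surjective_of_finrank_eq_finrank Subspace.dual_finrank_eq.symm).1 h3 φ
  refine ⟨pr lev (-d) y, pr_mem y, fun e => h1 ?_, fun u hu hu' => ?_⟩
  · rw [LinearMap.flip_apply, h.B_pr hx, e, map_zero]
  · rw [← h.B_pr hu']
    exact h2 hu

theorem onto (hK : Kz lev E F (-d)) (hx : x ∈ Lz k lev d) :
    ∃ y ∈ Lz k lev (d + 2), ∃ z ∈ Lz k lev (d - 2), x = F y + E z := by
  have h1 : Lz k lev d ≤ (Lz k lev (d + 2)).map F ⊔ (Lz k lev (d - 2)).map E := by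
    by_contra h1
    obtain ⟨y, hy, h0, h2⟩ := h.exists_perp h1
    refine h0 (hK y hy ?_ ?_)
    · refine h.nd_lv (d := d - 2) (mem_cast (h.up _ y hy) (by ring)) fun z hz => ?_
      have h3 := h2 (E z) (Submodule.mem_sup_right ⟨z, hz, rfl⟩) (mem_cast (h.up _ z hz) (by ring))
      rwa [h.skE, neg_eq_zero] at h3
    · refine h.nd_lv (d := d + 2) (mem_cast (h.dn _ y hy) (by ring)) fun z hz => ?_
      have h3 := h2 (F z) (Submodule.mem_sup_left ⟨z, hz, rfl⟩) (mem_cast (h.dn _ z hz) (by ring))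
      rwa [h.skF, neg_eq_zero] at h3
  obtain ⟨_, ⟨y, hy, rfl⟩, _, ⟨z, hz, rfl⟩, e⟩ := Submodule.mem_sup.1 (h1 hx)
  exact ⟨y, hy, z, hz, e.symm⟩

theorem cas_gen (hd : (d : k) = 0) (hK : Kz lev E F d) (U : Submodule k (I → k)) (hU : ∀ x ∈ Lz k lev d, E x ∈ U)
    (hs : ∀ x ∈ Lz k lev d, ∃ y ∈ U, ∃ z ∈ Lz k lev (d - 2), x = F y + E z) :
    2 * mm lev d ≤ finrank k U + mm lev (d - 2) := by
  have h1 := cas0 (M := Lz k lev d) (P := U × Lz k lev (d - 2)) ((E.restrict hU).prod (-F.restrict (h.dn d)))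
    ((F ∘ₗ U.subtype).coprod (E ∘ₗ (Lz k lev (d - 2)).subtype)) ?_ ?_ (Lz k lev d) ?_
  · rw [finrank_prod, finrank_Lz, finrank_Lz] at h1
    omega
  · rw [injective_iff_map_eq_zero]
    intro x hx
    exact Subtype.ext (hK x.1 x.2 (congrArg (fun z => z.1.1) hx) (neg_eq_zero.1 (congrArg (fun z => z.2.1) hx)))
  · intro x
    show F (E x.1) + E (-F x.1) = 0
    rw [map_neg, h.ef d x.1 x.2, hd, zero_smul, add_zero, add_neg_cancel]
  · intro x hx
    obtain ⟨y, hy, z, hz, e⟩ := hs x hx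
    exact ⟨(⟨y, hy⟩, ⟨z, hz⟩), e.symm⟩

/-- **CAS** -/
theorem cas (hd : (d : k) = 0) (hK : Kz lev E F d) (hK' : Kz lev E F (-d)) :
    2 * mm lev d ≤ mm lev (d + 2) + mm lev (d - 2) := by
  rw [← finrank_Lz (k := k) lev (d + 2)]
  exact h.cas_gen hd hK _ (h.up d) fun x hx => h.onto hK' hx

theorem Kz_of_ne (hd : (d : k) ≠ 0) : Kz lev E F d := fun x hx h1 h2 => by
  have h3 := h.ef d x hx
  rw [h1, h2, map_zero, map_zero, zero_add] at h3
  exact (smul_eq_zero.1 h3.symm).resolve_left hd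

theorem pow_dn (hx : x ∈ Lz k lev d) (n : ℕ) : (F ^ n) x ∈ Lz k lev (d - 2 * n) := by
  induction n with
  | zero => simpa using hx
  | succ n ih =>
    rw [pow_succ', Module.End.mul_apply]
    exact mem_cast (h.dn _ _ ih) (by push_cast; ring)

/-- strings -/
theorem string (hx : x ∈ Lz k lev d) (h0 : E x = 0) (n : ℕ) :
    E ((F ^ (n + 1)) x) = (((n + 1) * (d - n) : ℤ) : k) • (F ^ n) x := by
  induction n with
  | zero => simp [h.ef d x hx, h0]
  | succ n ih =>
    rw [pow_succ', Module.End.mul_apply, h.ef _ _ (h.pow_dn hx (n + 1)), ih, map_smul, ← Module.End.mul_apply F,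
      ← pow_succ', ← add_smul]
    congr 1
    push_cast
    ring

theorem string_inj (hx : x ∈ Lz k lev d) (h0 : E x = 0) (n : ℕ) (hn : ∀ i < n, (((i + 1) * (d - i) : ℤ) : k) ≠ 0)
    (h1 : (F ^ n) x = 0) : x = 0 := by
  induction n with
  | zero => simpa using h1
  | succ n ih =>
    refine ih (fun i hi => hn i (by omega)) ?_
    have h2 := h.string hx h0 n
    rw [h1, map_zero] at h2
    exact (smul_eq_zero.1 h2.symm).resolve_left (hn n (by omega))

theorem simple2 (h2 : (2 : k) ≠ 0) (hd : (d : k) ≠ 0) (hd' : ((d - 1 : ℤ) : k) ≠ 0) :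
    mm lev d ≤ mm lev (d + 2) + mm lev (d - 4) := by
  simp only [← finrank_Lz (k := k)]
  refine le_of_inj2 _ E (F ^ 2) _ _ (h.up d) (fun x hx => mem_cast (h.pow_dn hx 2) (by norm_num))
    fun x hx h0 h1 => h.string_inj hx h0 2 (fun i hi => ?_) h1
  interval_cases i
  · simpa only [_root_.CharP.cast_eq_zero, _root_.zero_add, _root_.sub_zero, _root_.one_mul, _root_.ne_eq] using hd
  · push_cast at hd' ⊢
    exact mul_ne_zero h2 hd'

end Sl

end Cfsg.Agent.E7P.En1
end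

-- part: E7P/En1/Rat
section
/-!
# S5932, END1: a rational `SL₂` in standard position (helper48)
-/

set_option autoImplicit false
set_option maxRecDepth 100000
set_option linter.unusedSectionVars false

namespace Cfsg.Agent.E7P.En1

open Cfsg Cfsg.Lie Matrix Module
open Cfsg.Agent.H943.E7V.Block (D1 rho)
open Cfsg.Agent.R2.T1 Cfsg.Agent.E7P.Kf Cfsg.Agent.E7P.Br
open Cfsg.Agent.R2.PX (del DD dd)
open Cfsg.Agent.H943.SL2Rel (u w h)
open Finset (range)

universe u

variable {k : Type u} [Field k]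

/-! ### polynomial identities -/

section Poly
variable [Infinite k] {M : Type*} [AddCommGroup M] [Module k M]

theorem eval_sum (φ : Dual k M) (n : ℕ) (a : ℕ → M) (t : k) :
    (∑ m ∈ range n, Polynomial.monomial m (φ (a m))).eval t = φ (∑ m ∈ range n, t ^ m • a m) := by
  rw [Polynomial.eval_finset_sum, map_sum]
  exact Finset.sum_congr rfl fun m _ => by rw [Polynomial.eval_monomial, map_smul, smul_eq_mul, mul_comm]

theorem coeff_sum (φ : Dual k M) {n m : ℕ} (hm : m < n) (a : ℕ → M) :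
    (∑ m ∈ range n, Polynomial.monomial m (φ (a m))).coeff m = φ (a m) := by
  simp only [Polynomial.finset_sum_coeff, Polynomial.coeff_monomial]
  rw [Finset.sum_ite_eq', if_pos (Finset.mem_range.2 hm)]

theorem ext_dual {x y : M} (h : ∀ φ : Dual k M, φ x = φ y) : x = y :=
  sub_eq_zero.1 ((forall_dual_apply_eq_zero_iff k _).1 fun φ => by rw [map_sub, h, sub_self])

theorem coef_eq {n : ℕ} {a b : ℕ → M} (h : ∀ t : k, ∑ m ∈ range n, t ^ m • a m = ∑ m ∈ range n, t ^ m • b m) {m : ℕ}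
    (hm : m < n) : a m = b m := by
  refine ext_dual (k := k) fun φ => ?_
  rw [← coeff_sum φ hm a, ← coeff_sum φ hm b]
  exact congrArg (Polynomial.coeff · m) (Polynomial.funext fun t => by rw [eval_sum, eval_sum, h])

theorem coef_one {n : ℕ} (hn : 2 ≤ n) {a b : ℕ → M} {c : ℤ}
    (h : ∀ x : k, 1 + x ≠ 0 → ∑ m ∈ range n, x ^ m • a m = (1 + x) ^ c • ∑ m ∈ range n, x ^ m • b m) :
    a 1 = b 1 + (c : k) • b 0 := by
  refine ext_dual (k := k) fun φ => ?_
  obtain ⟨c1, c2, rfl⟩ : ∃ c1 c2 : ℕ, c = c1 - c2 := ⟨c.toNat, (-c).toNat, by omega⟩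
  have h1 : (1 + Polynomial.X) ^ c2 * ∑ m ∈ range n, Polynomial.monomial m (φ (a m)) =
      (1 + Polynomial.X) ^ c1 * ∑ m ∈ range n, Polynomial.monomial m (φ (b m)) := by
    refine Polynomial.eq_of_infinite_eval_eq _ _ ((Set.finite_singleton (-1 : k)).infinite_compl.mono fun x hx => ?_)
    have h2 : 1 + x ≠ 0 := fun e => hx (eq_neg_of_add_eq_zero_right e)
    show Polynomial.eval x _ = Polynomial.eval x _
    rw [Polynomial.eval_mul, Polynomial.eval_mul, eval_sum, eval_sum, h x h2, map_smul, smul_eq_mul, zpow_sub₀ h2]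
    simp only [Polynomial.eval_pow, Polynomial.eval_add, Polynomial.eval_one, Polynomial.eval_X, zpow_natCast]
    field_simp
  have h2 := congrArg (Polynomial.coeff · 0) h1
  have h3 := congrArg (Polynomial.coeff · 1) h1
  simp only [Polynomial.mul_coeff_zero, Polynomial.mul_coeff_one, Polynomial.coeff_one_add_X_pow, Nat.choose_zero_right,
    Nat.choose_one_right, Nat.cast_one, one_mul, coeff_sum φ (show 0 < n by omega),
    coeff_sum φ (show 1 < n by omega)] at h2 h3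
  rw [map_add, map_smul, smul_eq_mul]
  push_cast
  linear_combination h3 - (c2 : k) * h2

end Poly

/-! ### `SL₂` -/

/-- the lower unitriangular matrices -/
def lo (s : k) : _root_.Matrix.SpecialLinearGroup (Fin 2) k := w * u (-s) * w⁻¹

theorem lo_val (s : k) : (lo s).1 = !![1, 0; s, 1] := by
  let y : _root_.Matrix.SpecialLinearGroup (Fin 2) k := ⟨!![1, 0; s, 1], by simp [det_fin_two]⟩
  have h1 : y * w = w * u (-s) := by
    refine Subtype.ext ?_
    show !![1, 0; s, 1] * !![0, 1; -1, 0] = !![0, 1; -1, 0] * !![1, -s; 0, 1]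
    simp
  rw [lo, ← h1, mul_inv_cancel_right]

theorem u_lo {x : k} (hx : 1 + x ≠ 0) :
    u 1 * lo x = lo (x * (1 + x)⁻¹) * h (Units.mk0 _ hx) * u (1 + x)⁻¹ := by
  refine Subtype.ext ?_
  show (u 1).1 * (lo x).1 = (lo (x * (1 + x)⁻¹)).1 * (h (Units.mk0 _ hx)).1 * (u (1 + x)⁻¹).1
  rw [lo_val, lo_val]
  ext i j
  (revert i j; simp only [u, h, Matrix.mul_apply, Fin.sum_univ_two, _root_.Fin.forall_fin_succ, _root_.Matrix.of_apply, _root_.Matrix.cons_val', _root_.Matrix.cons_val_fin_one, Fin.isValue, _root_.Matrix.cons_val_zero, _root_.Matrix.cons_val_one, _root_.Units.val_mk0, _root_.Matrix.cons_mul, _root_.Nat.succ_eq_add_one, Nat.reduceAdd, _root_.Matrix.vecMul_cons, _root_.Matrix.head_cons, _root_.one_smul, _root_.Matrix.tail_cons, _root_.zero_smul, _root_.Matrix.empty_vecMul, _root_.add_zero, _root_.Matrix.smul_cons, _root_.smul_eq_mul, _root_.MulZeroClass.mul_zero, _root_.Matrix.smul_empty, _root_.Matrix.add_cons, _root_.zero_add,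 _root_.Matrix.empty_add_empty, _root_.Matrix.empty_mul, _root_.Equiv.symm_apply_apply, _root_.mul_one, _root_.Matrix.cons_val_succ, _root_.forall_const, _root_.one_mul, _root_.and_true, _root_.true_and]) <;> (repeat' with_reducible apply And.intro) <;> field_simp
  ring

theorem w_eq : (w : _root_.Matrix.SpecialLinearGroup (Fin 2) k) = u 1 * lo (-1) * u 1 := by
  refine Subtype.ext ?_
  show (w : _root_.Matrix.SpecialLinearGroup (Fin 2) k).1 = (u 1).1 * (lo (-1)).1 * (u 1).1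
  rw [lo_val]
  simp [u, w]

theorem h_eq (z : kˣ) : h z = u (z : k) * w * u (z : k)⁻¹ * w * u (z : k) * w := by
  refine Subtype.ext ?_
  show (h z).1 = (u (z : k)).1 * w.1 * (u (z : k)⁻¹).1 * w.1 * (u (z : k)).1 * w.1
  ext i j
  (revert i j; simp only [u, h, w, Matrix.mul_apply, Fin.sum_univ_two, _root_.Fin.forall_fin_succ, _root_.Matrix.of_apply, _root_.Matrix.cons_val', _root_.Matrix.cons_val_fin_one, _root_.Matrix.cons_mul, _root_.Nat.succ_eq_add_one, Nat.reduceAdd, _root_.Matrix.vecMul_cons, _root_.Matrix.head_cons, _root_.one_smul, _root_.Matrix.tail_cons, _root_.Matrix.smul_cons, _root_.smul_eq_mul, _root_.mul_neg, _root_.mul_one, _root_.MulZeroClass.mul_zero, _root_.Matrix.smul_empty, _root_.Matrix.empty_vecMul, _root_.add_zero, _root_.Matrix.add_cons, _root_.zero_add, _root_.Matrix.empty_add_empty, _root_.zero_smul, _root_.Matrix.empty_mul, _root_.Equiv.symm_apply_apply, _root_.neg_smul, _root_.ne_eq, _root_.Units.ne_zero,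 _root_.not_false_eq_true, _root_.mul_inv_cancel₀, _root_.Matrix.neg_cons, _root_.Matrix.neg_empty, _root_.neg_add_cancel, _root_.neg_zero, _root_.neg_neg, _root_.inv_mul_cancel₀, _root_.add_neg_cancel, Fin.isValue, _root_.Matrix.cons_val_zero, _root_.Matrix.cons_val_one, _root_.Matrix.cons_val_succ, _root_.implies_true, _root_.and_true, _root_.and_self])

/-- generation by the two root groups -/
theorem induct2 {P : _root_.Matrix.SpecialLinearGroup (Fin 2) k → Prop} (hu : ∀ t, P (u t)) (hl : ∀ t, P (lo t))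
    (hm : ∀ a b, P a → P b → P (a * b)) (g : _root_.Matrix.SpecialLinearGroup (Fin 2) k) : P g := by
  have hw : P w := w_eq (k := k) ▸ hm _ _ (hm _ _ (hu 1) (hl (-1))) (hu 1)
  refine H943.SL2Rel.induct hu (fun z => ?_) hw hm g
  rw [h_eq]
  exact hm _ _ (hm _ _ (hm _ _ (hm _ _ (hm _ _ (hu _) hw) (hu _)) hw) (hu _)) hw

theorem h_w' (a : kˣ) : h a * w⁻¹ = w⁻¹ * h a⁻¹ := by
  have h1 := H943.SL2Rel.h_w a⁻¹
  rw [inv_inv] at h1
  rw [eq_inv_mul_iff_mul_eq, ← mul_assoc, ← h1, mul_inv_cancel_right]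

/-! ### integral levels -/

section Lev
variable {I : Type}

/-- the level for a cocharacter -/
def lz (c : I → Fin 7 → ℤ) (l : Fin 7 → ℤ) (i : I) : ℤ := ∑ j, c i j * l j

variable {c : I → Fin 7 → ℤ} {l : Fin 7 → ℤ} {d a : ℤ} {x : I → k}

theorem bf_lz (c : I → Fin 7 → ℤ) (l : Fin 7 → ℤ) (i : I) : bf (lE l) (cv (c i)) = (lz c l i : ℝ) := bf_lE l (c i)

theorem Lv_iff : x ∈ Lv k c (lE l) d ↔ x ∈ Lz k (lz c l) d :=
  forall_congr' fun i => imp_congr_right fun _ => by rw [bf_lz, Int.cast_inj]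

theorem Ge_of_Lz (hx : x ∈ Lz k (lz c l) d) : x ∈ Ge k c (lE l) d := Lv_le_Ge (Lv_iff.2 hx)

theorem Ge_neg_of_Lz (hx : x ∈ Lz k (lz c l) d) : x ∈ Ge k c (-lE l) (-d) := Lv_le_Ge (mem_Lv_neg.2 (Lv_iff.2 hx))

/-- homogeneous matrices -/
def Hm (lev : I → ℤ) (A : Matrix I I k) (a : ℤ) : Prop := ∀ i j, A i j ≠ 0 → lev i = lev j + a

theorem Hm.MGe {A : Matrix I I k} (hA : Hm (lz c l) A a) : A ∈ MGe k c (lE l) a := fun i j hij => by
  rw [bf_lz, bf_lz, hA i j hij]
  push_cast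
  exact le_rfl

variable [Fintype I] [DecidableEq I] {R : Gh k →* Matrix I I k}

theorem Hm.vec {lev : I → ℤ} {A : Matrix I I k} (hA : Hm lev A a) (hx : x ∈ Lz k lev d) : A *ᵥ x ∈ Lz k lev (d + a) :=
  fun i hi => by
    obtain ⟨j, h1, h2⟩ := exists_col hi
    rw [hA i j h1, hx j h2]

theorem Hm.of_vec {lev : I → ℤ} {A : Matrix I I k} (hA : ∀ d, ∀ x ∈ Lz k lev d, A *ᵥ x ∈ Lz k lev (d + a)) :
    Hm lev A a := fun i j hij => hA _ _ (single_mem lev j 1) i (by rwa [mulVec_single_one])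

theorem mat_ext (lev : I → ℤ) {A B : Matrix I I k} (hA : ∀ d, ∀ x ∈ Lz k lev d, A *ᵥ x = B *ᵥ x) : A = B := by
  ext i j
  have h1 := congrFun (hA _ _ (single_mem lev j 1)) i
  rwa [mulVec_single_one, mulVec_single_one] at h1

theorem lam_eq (hR : WRep c R) (l : Fin 7 → ℤ) (z : kˣ) :
    R (Phi k (lam l z)) = diagonal fun i => (z : k) ^ lz c l i := by
  rw [hR.tor]
  congr 1
  funext i
  rw [ch_lam, Units.val_zpow_eq_zpow_val, lz]

theorem lam_vec (hR : WRep c R) (hx : x ∈ Lz k (lz c l) d) (z : kˣ) : R (Phi k (lam l z)) *ᵥ x = (z : k) ^ d • x := by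
  funext i
  rw [lam_eq hR, mulVec_diagonal, Pi.smul_apply, smul_eq_mul]
  by_cases h0 : x i = 0
  · rw [h0, mul_zero, mul_zero]
  · rw [hx i h0]

theorem zpow_sep [Infinite k] {a b : ℤ} (hab : ∀ z : kˣ, (z : k) ^ a = (z : k) ^ b) : a = b := by
  by_contra hne
  obtain ⟨z, hz⟩ := exists_zpow_ne (K := k) (sub_ne_zero.2 hne)
  refine hz (Units.ext ?_)
  rw [Units.val_zpow_eq_zpow_val, zpow_sub₀ z.ne_zero, hab, div_self (zpow_ne_zero _ z.ne_zero), Units.val_one]

theorem of_lam [Infinite k] (hR : WRep c R) (hx : ∀ z : kˣ, R (Phi k (lam l z)) *ᵥ x = (z : k) ^ d • x) :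
    x ∈ Lz k (lz c l) d := fun i hi => zpow_sep (k := k) fun z => by
  have h1 := congrFun (hx z) i
  rw [lam_eq hR, mulVec_diagonal, Pi.smul_apply, smul_eq_mul] at h1
  exact mul_right_cancel₀ hi h1

/-- the centraliser of a cocharacter -/
theorem hm_of_comm [Infinite k] (hR : WRep c R) {y : Gh k} (hy : ∀ z, y * Phi k (lam l z) = Phi k (lam l z) * y) :
    Hm (lz c l) (R y) 0 := Hm.of_vec fun d x hx => of_lam hR fun z => by
  rw [← mulVec_mul, ← hy, mulVec_mul, lam_vec hR hx, mulVec_smul, add_zero]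

theorem Pl_of_hm [Infinite k] {y : Gh k} (hy : Hm (lz wc l) (rho k y) 0) : y ∈ Pl k (lE l) ∧ y ∈ Pl k (-lE l) := by
  refine ⟨mem_Pl_of_tri fun i j hij => ?_, mem_Pl_of_tri fun i j hij => ?_⟩
  · rw [wv, wv, bf_lz, bf_lz, hy i j hij, add_zero]
  · rw [map_neg, LinearMap.neg_apply, LinearMap.neg_apply, wv, wv, bf_lz, bf_lz, hy i j hij, add_zero]

end Lev

theorem del_hm {l : Fin 7 → ℤ} {d : ℤ} {z : chevE7.Idx → k} : Hm (lz wc l) (del k z) d ↔ z ∈ Lz k (lz ac l) d := by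
  have key : ∀ {i j : D1} {a : chevE7.Idx}, wv i = wv j + cv (ac a) → lz wc l i = lz wc l j + lz ac l a := by
    intro i j a e
    have h1 := congrArg (bf (lE l)) e
    rw [map_add, wv, wv, bf_lz, bf_lz, bf_lz] at h1
    exact_mod_cast h1
  refine ⟨fun hz a ha => ?_, fun hz i j hij => ?_⟩
  · obtain ⟨i, j, h1, e⟩ := del_supp ha
    have := key e
    have := hz i j h1
    omega
  · obtain ⟨a, ha, e⟩ := del_wt hij
    rw [key e, hz a ha]

/-! ### the group -/

variable (k) in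
/-- a rational homomorphism from `SL₂` in standard position -/
structure One where
  Ξ : _root_.Matrix.SpecialLinearGroup (Fin 2) k →* Gh k
  l : Fin 7 → ℤ
  tor : ∀ z, Ξ (h z) = Phi k (lam l z)
  e : chevE7.Idx → k
  D : ℕ → Matrix D1 D1 k
  N : ℕ
  poly : ∀ t, rho k (Ξ (u t)) = ∑ m ∈ range (N + 2), t ^ m • D m
  D1 : D 1 = del k e
  ne : e ≠ 0

namespace One

variable (O : One k)

/-- the divided powers -/
def Dm (m : ℕ) : Matrix H943.E7V.Block.D1 H943.E7V.Block.D1 k := if m < O.N + 2 then O.D m else 0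

theorem Dm_zero_of {m : ℕ} (hm : O.N + 2 ≤ m) : O.Dm m = 0 := if_neg (not_lt.2 hm)

theorem poly' {n : ℕ} (hn : O.N + 2 ≤ n) (t : k) : rho k (O.Ξ (u t)) = ∑ m ∈ range n, t ^ m • O.Dm m := by
  rw [O.poly, ← Finset.sum_subset (Finset.range_mono hn) fun m _ hm => by
    rw [O.Dm_zero_of (not_lt.1 fun e => hm (Finset.mem_range.2 e)), smul_zero]]
  exact Finset.sum_congr rfl fun m hm => by rw [Dm, if_pos (Finset.mem_range.1 hm)]

theorem vec_poly {n : ℕ} (hn : O.N + 2 ≤ n) (t : k) (x : H943.E7V.Block.D1 → k) :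
    rho k (O.Ξ (u t)) *ᵥ x = ∑ m ∈ range n, t ^ m • (O.Dm m *ᵥ x) := by
  rw [O.poly' hn, sum_mulVec]
  simp only [smul_mulVec]

theorem Dm_one : O.Dm 1 = del k O.e := (if_pos (by omega)).trans O.D1

theorem Dm_zero : O.Dm 0 = 1 := by
  have h1 := O.poly' le_rfl 0
  rw [H943.SL2Rel.u_zero, map_one, map_one, Finset.sum_range_succ', pow_zero, one_smul,
    Finset.sum_eq_zero fun m _ => by rw [pow_succ, mul_zero, zero_smul], zero_add] at h1
  exact h1.symm

/-- the lowering operator -/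
noncomputable def f : chevE7.Idx → k := - (adM k (O.Ξ w) *ᵥ O.e)

/-- the semisimple element -/
noncomputable def hh : chevE7.Idx → k := br k O.e O.f

/-- the divided powers of the lowering operator -/
noncomputable def Fm (m : ℕ) : Matrix H943.E7V.Block.D1 H943.E7V.Block.D1 k :=
  (-1 : k) ^ m • (rho k (O.Ξ w) * O.Dm m * rho k (O.Ξ w⁻¹))

theorem vec_lo {n : ℕ} (hn : O.N + 2 ≤ n) (t : k) (x : H943.E7V.Block.D1 → k) :
    rho k (O.Ξ (lo t)) *ᵥ x = ∑ m ∈ range n, t ^ m • (O.Fm m *ᵥ x) := by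
  rw [lo, map_mul O.Ξ, map_mul O.Ξ, mulVec_mul, mulVec_mul, O.vec_poly hn, mulVec_sum]
  refine Finset.sum_congr rfl fun m _ => ?_
  rw [Fm, smul_mulVec, smul_smul, ← mul_pow, mul_neg_one, mulVec_smul, mulVec_mulVec, mulVec_mulVec]

theorem Fm_zero : O.Fm 0 = 1 := by
  rw [Fm, pow_zero, one_smul, Dm_zero, mul_one, ← map_mul, ← map_mul, mul_inv_cancel, map_one, map_one]

theorem Fm_one (h2 : (2 : k) ≠ 0) : O.Fm 1 = del k O.f := by
  rw [Fm, pow_one, neg_one_smul, Dm_one, f, map_neg, del_adM h2, map_inv]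

variable [Infinite k]

section
variable {I : Type} [Fintype I] [DecidableEq I] {c : I → Fin 7 → ℤ} {R : Gh k →* Matrix I I k} {d : ℤ} {x : I → k}

theorem h_vec (hR : WRep c R) (hx : x ∈ Lz k (lz c O.l) d) (z : kˣ) : R (O.Ξ (h z)) *ᵥ x = (z : k) ^ d • x := by
  rw [O.tor, lam_vec hR hx]

theorem of_h (hR : WRep c R) (hx : ∀ z : kˣ, R (O.Ξ (h z)) *ᵥ x = (z : k) ^ d • x) : x ∈ Lz k (lz c O.l) d :=
  of_lam hR fun z => by rw [← O.tor, hx]

theorem w_flip (hR : WRep c R) (hx : x ∈ Lz k (lz c O.l) d) : R (O.Ξ w) *ᵥ x ∈ Lz k (lz c O.l) (-d) :=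
  O.of_h hR fun z => by
    rw [← mulVec_mul, ← map_mul, H943.SL2Rel.h_w, map_mul, mulVec_mul, O.h_vec hR hx, mulVec_smul,
      Units.val_inv_eq_inv_val, _root_.inv_zpow']

theorem w_flip' (hR : WRep c R) (hx : x ∈ Lz k (lz c O.l) d) : R (O.Ξ w⁻¹) *ᵥ x ∈ Lz k (lz c O.l) (-d) :=
  O.of_h hR fun z => by
    rw [← mulVec_mul, ← map_mul, h_w', map_mul, mulVec_mul, O.h_vec hR hx, mulVec_smul,
      Units.val_inv_eq_inv_val, _root_.inv_zpow']

end

variable {d : ℤ} {x : H943.E7V.Block.D1 → k}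

theorem Dm_vec (m : ℕ) (hx : x ∈ Lz k (lz wc O.l) d) : O.Dm m *ᵥ x ∈ Lz k (lz wc O.l) (d + 2 * m) := by
  refine O.of_h wrep_V fun z => ?_
  refine coef_eq (k := k) (n := O.N + 2 + m + 1) (a := fun m => rho k (O.Ξ (h z)) *ᵥ (O.Dm m *ᵥ x))
    (b := fun m => (z : k) ^ (d + 2 * m) • (O.Dm m *ᵥ x)) (fun t => ?_) (by omega)
  have h1 := congrArg (fun g => rho k (O.Ξ g) *ᵥ x) (H943.SL2Rel.h_u z t)
  simp only [map_mul, ← mulVec_mulVec] at h1
  rw [O.h_vec wrep_V hx, O.vec_poly (n := O.N + 2 + m + 1) (by omega), O.vec_poly (n := O.N + 2 + m + 1) (by omega),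
    mulVec_sum] at h1
  simp only [mulVec_smul] at h1
  rw [h1]
  refine Finset.sum_congr rfl fun m _ => ?_
  rw [smul_smul, smul_smul, zpow_add₀ z.ne_zero, _root_.zpow_mul, zpow_natCast, mul_pow, zpow_ofNat]
  congr 1
  ring

theorem Dm_hm (m : ℕ) : Hm (lz wc O.l) (O.Dm m) (2 * m) := Hm.of_vec fun _ _ hx => O.Dm_vec m hx

theorem Fm_vec (m : ℕ) (hx : x ∈ Lz k (lz wc O.l) d) : O.Fm m *ᵥ x ∈ Lz k (lz wc O.l) (d + -(2 * m)) := by
  rw [Fm, smul_mulVec, ← mulVec_mulVec, ← mulVec_mulVec]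
  exact Submodule.smul_mem _ _ (mem_cast (O.w_flip wrep_V (O.Dm_vec m (O.w_flip' wrep_V hx))) (by ring))

theorem e_mem : O.e ∈ Lz k (lz ac O.l) 2 := del_hm.1 (O.Dm_one ▸ O.Dm_hm 1)

theorem f_mem : O.f ∈ Lz k (lz ac O.l) (-2) := neg_mem (O.w_flip wrep_L O.e_mem)

theorem pr_u (hx : x ∈ Lz k (lz wc O.l) d) (n : ℕ) (t : k) :
    pr (lz wc O.l) (d + 2 * n) (rho k (O.Ξ (u t)) *ᵥ x) = t ^ n • (O.Dm n *ᵥ x) := by
  rw [O.vec_poly (n := O.N + 2 + n + 1) (by omega), map_sum, Finset.sum_eq_single n]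
  · rw [map_smul, pr_of_mem (O.Dm_vec n hx)]
  · intro m _ hm
    rw [map_smul, pr_of_ne (O.Dm_vec m hx) (by omega), smul_zero]
  · intro h1
    exact absurd (Finset.mem_range.2 (by omega)) h1

theorem Dm_succ (m : ℕ) : del k O.e * O.Dm m = ((m : k) + 1) • O.Dm (m + 1) := by
  refine mat_ext (lz wc O.l) fun d x hx => ?_
  have h1 := coef_one (k := k) (n := O.N + 2) (by omega)
    (a := fun i => O.Dm i *ᵥ pr (lz wc O.l) (d + 2 * (m + 1 : ℕ) - 2 * i) (rho k (O.Ξ (u 1)) *ᵥ x))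
    (b := fun i => if i = 0 then O.Dm (m + 1) *ᵥ x else 0) (c := (m + 1 : ℕ)) fun s _ => by
      rw [Finset.sum_range_succ' (fun i => s ^ i • if i = 0 then O.Dm (m + 1) *ᵥ x else 0)]
      simp only [Nat.add_eq_zero_iff, one_ne_zero, and_false, if_false, smul_zero, Finset.sum_const_zero, zero_add, pow_zero,
        if_true, one_smul, zpow_natCast]
      rw [← O.pr_u hx, add_comm 1 s, H943.SL2Rel.u_add, map_mul, mulVec_mul, O.vec_poly le_rfl s, map_sum]
      refine Finset.sum_congr rfl fun i _ => ?_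
      rw [map_smul]
      congr 1
      have h2 := pr_map (f := toLin' (O.Dm i)) (fun d x hx => O.Dm_vec i hx) (d + 2 * (m + 1 : ℕ) - 2 * i)
        (rho k (O.Ξ (u 1)) *ᵥ x)
      rw [sub_add_cancel] at h2
      exact h2.symm
  have e1 : d + 2 * (m + 1 : ℕ) - 2 * (1 : ℕ) = d + 2 * m := by push_cast; ring
  rw [e1, O.pr_u hx, if_neg one_ne_zero, if_pos rfl, zero_add, one_pow, one_smul, O.Dm_one] at h1
  rw [← mulVec_mulVec, smul_mulVec]
  exact_mod_cast h1

theorem pow_eq (m : ℕ) : del k O.e ^ m = (m.factorial : k) • O.Dm m := by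
  induction m with
  | zero => simp only [O.Dm_zero, _root_.pow_zero, _root_.Nat.factorial_zero, _root_.Nat.cast_one, _root_.one_smul]
  | succ m ih =>
    rw [pow_succ', ih, mul_smul_comm, O.Dm_succ, smul_smul, Nat.factorial_succ]
    push_cast
    rw [mul_comm]

/-- **the basic relation** -/
theorem rel (h2 : (2 : k) ≠ 0) (j : ℕ) (hx : x ∈ Lz k (lz wc O.l) d) :
    O.Dm (j + 1) *ᵥ (del k O.f *ᵥ x) = del k O.f *ᵥ (O.Dm (j + 1) *ᵥ x) + ((d : k) + j) • (O.Dm j *ᵥ x) := by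
  have h1 := coef_one (k := k) (n := O.N + 2) (by omega) (a := fun m => O.Dm (j + m) *ᵥ (O.Fm m *ᵥ x))
    (b := fun m => O.Fm m *ᵥ (O.Dm (j + m) *ᵥ x)) (c := d + j) fun s hs => by
      have h3 := congrArg (fun g => pr (lz wc O.l) (d + 2 * j) (rho k (O.Ξ g) *ᵥ x)) (u_lo hs)
      simp only [map_mul, ← mulVec_mulVec] at h3
      rw [O.vec_lo le_rfl, O.vec_lo le_rfl, mulVec_sum, map_sum, map_sum] at h3
      rw [Finset.smul_sum]
      refine Eq.trans (Finset.sum_congr rfl fun m _ => ?_) (h3.trans (Finset.sum_congr rfl fun m _ => ?_))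
      · have h4 := O.pr_u (O.Fm_vec m hx) (j + m) 1
        rw [show d + -(2 * m) + 2 * (j + m : ℕ) = d + 2 * j by push_cast; ring, one_pow, one_smul] at h4
        rw [mulVec_smul, map_smul, h4]
      · have h4 := pr_map (f := toLin' (O.Fm m)) (fun d x hx => O.Fm_vec m hx) (d + 2 * (j + m : ℕ))
          (rho k (O.Ξ (h (Units.mk0 _ hs))) *ᵥ (rho k (O.Ξ (u (1 + s)⁻¹)) *ᵥ x))
        have h5 := pr_map (f := toLin' (rho k (O.Ξ (h (Units.mk0 _ hs))))) (a := 0) (lev := lz wc O.l) (lev' := lz wc O.l)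
          (fun d x hx => by
            rw [toLin'_apply, O.h_vec wrep_V hx, add_zero]
            exact Submodule.smul_mem _ _ hx) (d + 2 * (j + m : ℕ)) (rho k (O.Ξ (u (1 + s)⁻¹)) *ᵥ x)
        rw [show d + 2 * (j + m : ℕ) + -(2 * m) = d + 2 * j by push_cast; ring, toLin'_apply, toLin'_apply] at h4
        rw [add_zero, toLin'_apply, toLin'_apply, O.pr_u hx, mulVec_smul, O.h_vec wrep_V (O.Dm_vec _ hx)] at h5
        rw [map_smul, h4, h5, mulVec_smul, mulVec_smul, smul_smul, smul_smul, smul_smul]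
        congr 1
        rw [Units.val_mk0, zpow_add₀ hs, zpow_add₀ hs, _root_.zpow_mul, zpow_natCast, zpow_natCast, zpow_ofNat]
        generalize 1 + s = a at hs
        simp only [mul_pow, pow_add, inv_pow, pow_two]
        field_simp
  rw [add_zero, O.Fm_zero, O.Fm_one h2, one_mulVec] at h1
  exact_mod_cast h1

theorem hh_vec (h2 : (2 : k) ≠ 0) (hx : x ∈ Lz k (lz wc O.l) d) : del k O.hh *ᵥ x = (d : k) • x := by
  have h1 := O.rel h2 0 hx
  rw [zero_add, O.Dm_one, O.Dm_zero, one_mulVec, Nat.cast_zero, add_zero] at h1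
  rw [hh, del_br, sub_mulVec, ← mulVec_mulVec, ← mulVec_mulVec, h1, add_sub_cancel_left]

theorem br_hh (h2 : (2 : k) ≠ 0) {z : chevE7.Idx → k} (hz : z ∈ Lz k (lz ac O.l) d) : br k O.hh z = (d : k) • z := by
  refine Mu.del_injective (mat_ext (lz wc O.l) fun a x hx => ?_)
  rw [del_br, sub_mulVec, ← mulVec_mulVec, ← mulVec_mulVec, O.hh_vec h2 hx, O.hh_vec h2 ((del_hm.2 hz).vec hx),
    mulVec_smul, map_smul, smul_mulVec, ← sub_smul]
  push_cast
  rw [add_sub_cancel_left]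

theorem ad_of (h2 : (2 : k) ≠ 0) {g : Gh k} {y z : chevE7.Idx → k} (hg : rho k g * del k y = del k z * rho k g) :
    adM k g *ᵥ y = z := Mu.del_injective (by
  rw [del_adM h2, hg, mul_assoc, ← map_mul, mul_inv_cancel, map_one, mul_one])

theorem u_e (h2 : (2 : k) ≠ 0) (t : k) : adM k (O.Ξ (u t)) *ᵥ O.e = O.e := by
  refine ad_of h2 ?_
  rw [← O.Dm_one]
  refine coef_eq (k := k) (n := O.N + 2) (a := fun m => rho k (O.Ξ (u t)) * O.Dm m)
    (b := fun m => O.Dm m * rho k (O.Ξ (u t))) (fun s => ?_) (by omega)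
  have h1 := O.poly' le_rfl s
  have h3 := congrArg (rho k (O.Ξ (u t)) * ·) h1
  have h4 := congrArg (· * rho k (O.Ξ (u t))) h1
  simp only [Finset.mul_sum, Finset.sum_mul, mul_smul_comm, smul_mul_assoc] at h3 h4
  rw [← h3, ← h4, ← map_mul, ← map_mul, ← map_mul, ← map_mul, ← H943.SL2Rel.u_add, ← H943.SL2Rel.u_add, add_comm]

theorem u_f (h2 : (2 : k) ≠ 0) (t : k) : adM k (O.Ξ (u t)) *ᵥ O.f = O.f + t • O.hh - t ^ 2 • O.e := by
  refine ad_of h2 (mat_ext (lz wc O.l) fun d x hx => ?_)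
  have a1 : rho k (O.Ξ (u t)) *ᵥ (del k O.f *ᵥ x) = del k O.f *ᵥ (rho k (O.Ξ (u t)) *ᵥ x) +
      ∑ m ∈ range (O.N + 2), (t ^ (m + 1) * ((d : k) + m)) • (O.Dm m *ᵥ x) := by
    rw [O.vec_poly (Nat.le_succ _), O.vec_poly (Nat.le_succ _), mulVec_sum, Finset.sum_range_succ',
      Finset.sum_range_succ' _ (O.N + 2), O.Dm_zero, one_mulVec, one_mulVec, mulVec_smul, add_right_comm,
      ← Finset.sum_add_distrib]
    congr 1
    exact Finset.sum_congr rfl fun m _ => by rw [O.rel h2 m hx, smul_add, mulVec_smul, smul_smul]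
  have a2 : t • (del k O.hh *ᵥ (rho k (O.Ξ (u t)) *ᵥ x)) =
      ∑ m ∈ range (O.N + 2), (t ^ (m + 1) * ((d : k) + 2 * m)) • (O.Dm m *ᵥ x) := by
    rw [O.vec_poly le_rfl, mulVec_sum, Finset.smul_sum]
    refine Finset.sum_congr rfl fun m _ => ?_
    rw [mulVec_smul, O.hh_vec h2 (O.Dm_vec m hx), smul_smul, smul_smul]
    congr 1
    push_cast
    ring
  have a3 : t ^ 2 • (del k O.e *ᵥ (rho k (O.Ξ (u t)) *ᵥ x)) =
      ∑ m ∈ range (O.N + 2), (t ^ (m + 1) * m) • (O.Dm m *ᵥ x) := by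
    have h1 := Finset.sum_range_succ (fun m => (t ^ (m + 1) * m) • (O.Dm m *ᵥ x)) (O.N + 2)
    rw [O.Dm_zero_of le_rfl, zero_mulVec, smul_zero, add_zero, Finset.sum_range_succ', Nat.cast_zero, mul_zero, zero_smul,
      add_zero] at h1
    rw [← h1, O.vec_poly le_rfl, mulVec_sum, Finset.smul_sum]
    refine Finset.sum_congr rfl fun m _ => ?_
    rw [mulVec_smul, mulVec_mulVec, O.Dm_succ, smul_mulVec, smul_smul, smul_smul]
    congr 1
    push_cast
    ring
  rw [map_sub, map_add, map_smul, map_smul, ← mulVec_mulVec, ← mulVec_mulVec, sub_mulVec, add_mulVec, smul_mulVec,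
    smul_mulVec, a1, a2, a3, add_sub_assoc, ← Finset.sum_sub_distrib]
  congr 1
  refine Finset.sum_congr rfl fun m _ => ?_
  rw [← sub_smul]
  congr 1
  ring

theorem w_e : adM k (O.Ξ w) *ᵥ O.e = -O.f := by rw [f, neg_neg]

theorem w_f : adM k (O.Ξ w) *ᵥ O.f = -O.e := by
  rw [f, mulVec_neg, ← mulVec_mul, ← map_mul, H943.SL2Rel.w_w, O.h_vec wrep_L O.e_mem]
  simp only [_root_.Units.val_neg, _root_.Units.val_one, _root_.zpow_ofNat, _root_.even_two, _root_.Even.neg_pow, _root_.one_pow, _root_.one_smul]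

theorem u_mem (t : k) : O.Ξ (u t) ∈ Ul k (lE O.l) := by
  refine mem_Ul_of_stri fun i j hij => ?_
  have h1 : rho k (O.Ξ (u t)) - 1 ∈ MGt k wc (lE O.l) 0 := by
    rw [O.poly' le_rfl, Finset.sum_range_succ', pow_zero, one_smul, O.Dm_zero, add_sub_cancel_right]
    refine Submodule.sum_mem _ fun m _ => Submodule.smul_mem _ _ (MGe_le_MGt ?_ (O.Dm_hm (m + 1)).MGe)
    push_cast
    positivity
  have h2 := h1 i j hij
  rwa [add_zero] at h2

theorem lo_mem (t : k) : O.Ξ (lo t) ∈ Ul k (-lE O.l) := by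
  refine mem_Ul_of_stri fun i j hij => ?_
  have h1 := O.vec_lo le_rfl t (Pi.single j 1)
  rw [Finset.sum_range_succ', pow_zero, one_smul, O.Fm_zero, ← sub_eq_iff_eq_add, ← sub_mulVec, mulVec_single_one] at h1
  have h2 := congrFun h1 i
  rw [col_apply, Finset.sum_apply] at h2
  obtain ⟨m, -, hm⟩ := Finset.exists_ne_zero_of_sum_ne_zero (h2 ▸ hij)
  have h3 := O.Fm_vec (m + 1) (single_mem (lz wc O.l) j 1) i (right_ne_zero_of_mul hm)
  rw [map_neg, LinearMap.neg_apply, LinearMap.neg_apply, wv, wv, bf_lz, bf_lz, neg_lt_neg_iff, Int.cast_lt]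
  omega

end One

end Cfsg.Agent.E7P.En1
end

private theorem dce_ea341ef6c804 : _root_.True := by
  try have : _root_.True := by simp only [_root_.Cfsg.Agent.H943.SL2Rel.h.eq_1]
  try have : _root_.True := by simp only [_root_.Cfsg.Agent.E7P.En1.One.f.eq_1]
  try have : _root_.True := by simp only [_root_.Cfsg.Agent.E7P.En1.lz.eq_1]
  try have : _root_.True := by simp only [_root_.Cfsg.Agent.E7P.En1.One.hh.eq_1]
  try have : _root_.True := by simp only [_root_.Cfsg.Agent.E7P.En1.lo.eq_1]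
  try have : _root_.True := by simp only [_root_.Cfsg.Agent.E7P.En1.One.Dm.eq_1]
  try have : _root_.True := by simp only [_root_.Cfsg.Agent.E7P.En1.One.Fm.eq_1]
  try have : _root_.True := by simp only [_root_.Cfsg.Agent.E7P.En1.mm.eq_1]
  exact _root_.True.intro
end

-- part: E7P/Lie/Alc
section
set_option linter.all false
open scoped Cfsg.Agent.FastGrp

/-!
# S5932, LIE 4: the alcove arguments ALC and GRAM (helper56)

* `pR r y` : the value of the root `r` at the vector `y` of values of the simple roots, `sL w` : the Weyl group;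
* `Rk7 S` : the roots with `S` span; `rk7_of_int`; `alc`, `alc_four`, `alc_real`;
* `vals`, `adM_nL_tv` : the Weyl group on the toral elements; `tor7`; `gram`.
-/

set_option autoImplicit false
set_option maxRecDepth 100000

namespace Cfsg.Agent.E7P.Lb

open Cfsg Cfsg.Lie Matrix Module
open Cfsg.Agent.ChevalleyStructure.RootVec (rt)
open Cfsg.Agent.R2.T1 Cfsg.Agent.E7P.Kf
open Cfsg.Agent.R2.PX (del)

universe u

/-- the marks -/
def mk : Fin 7 → ℕ := ![2, 2, 3, 4, 3, 2, 1]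

/-- the Cartan matrix -/
def CM : Fin 7 → Fin 7 → ℤ := ![![2, 0, -1, 0, 0, 0, 0], ![0, 2, 0, -1, 0, 0, 0], ![-1, 0, 2, -1, 0, 0, 0],
  ![0, -1, -1, 2, -1, 0, 0], ![0, 0, 0, -1, 2, -1, 0], ![0, 0, 0, 0, -1, 2, -1], ![0, 0, 0, 0, 0, -1, 2]]

theorem car_tab : ∀ i j : Fin 7, chevE7.cartan i (chevE7.simple j) = CM i j := by (rewrite [Cfsg.Agent.ChevFast.E7.cartan]; decide +kernel)

theorem CM_symm : ∀ i j, CM i j = CM j i := by decide +kernel

theorem car_top : ∀ i : Fin 7, chevE7.cartan i 125 = if i = 0 then 1 else 0 := by decide +kernel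

theorem rt_mk : ∀ i : Fin 7, rt chevE7 125 i = mk i := by decide +kernel

theorem rt_bd : ∀ r < 126, (∀ i : Fin 7, 0 ≤ rt chevE7 r i ∧ rt chevE7 r i ≤ mk i) ∨
    ∀ i : Fin 7, rt chevE7 r i ≤ 0 ∧ -rt chevE7 r i ≤ mk i := by decide +kernel

theorem rt_refl : ∀ j : Fin 7, ∀ r < 126, chevE7.reflectRoot j r < 126 ∧ ∀ i : Fin 7,
    rt chevE7 (chevE7.reflectRoot j r) i = rt chevE7 r i - if i = j then chevE7.cartan j r else 0 := by (delta Cfsg.Lie.ChevalleyDatum.chainRoot Cfsg.Lie.ChevalleyDatum.reflectRoot; rewrite [Cfsg.Agent.ChevFast.E7.cartan, Cfsg.Agent.ChevFast.E7.chainEntry, Cfsg.Agent.ChevFast.E7.neg]; open scoped Cfsg.Agent.ChevFast.Lin in decide +kernel)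

theorem car_eq {r : ℕ} (hr : r < 126) (i : Fin 7) : chevE7.cartan i r = ∑ j : Fin 7, rt chevE7 r j * CM i j := by
  have h := rc_eq hr i
  rw [Finset.sum_range] at h
  exact h.trans (Finset.sum_congr rfl fun j _ => by rw [car_tab])

section W
variable {R R' : Type*} [CommRing R] [CommRing R']

/-- the value of a root -/
def pR (r : ℕ) (y : Fin 7 → R) : R := ∑ i : Fin 7, (rt chevE7 r i : R) * y i

theorem pR_real {r : ℕ} (hr : r < 126) (x : E) : pR r x = bf x (rv r) := by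
  rw [bf_rv x hr]
  exact Finset.sum_congr rfl fun i _ => mul_comm _ _

theorem map_cast_mul (φ : R →+ R') (n : ℤ) (a : R) : φ (n * a) = n * φ a := by
  rw [← zsmul_eq_mul, map_zsmul, zsmul_eq_mul]

theorem pR_map (φ : R →+ R') (r : ℕ) (y : Fin 7 → R) : pR r (fun i => φ (y i)) = φ (pR r y) := by
  simp only [pR, map_sum, map_cast_mul]

theorem pR_single (r : ℕ) (i : Fin 7) (a : R) : pR r (Pi.single i a) = (rt chevE7 r i : R) * a := by
  simp [pR, Pi.single_apply]

theorem pR_sub (r : ℕ) (y y' : Fin 7 → R) : pR r (y - y') = pR r y - pR r y' := by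
  simp only [pR, Pi.sub_apply, mul_sub, Finset.sum_sub_distrib]

theorem pR_smul (r : ℕ) (a : R) (y : Fin 7 → R) : pR r (a • y) = a * pR r y := by
  simp only [pR, Pi.smul_apply, smul_eq_mul, Finset.mul_sum, mul_left_comm]

/-- the simple reflections -/
def sl (j : Fin 7) : (Fin 7 → R) →ₗ[R] (Fin 7 → R) where
  toFun v i := v i - (CM j i : R) * v j
  map_add' v v' := by funext i; simp only [Pi.add_apply]; ring
  map_smul' a v := by funext i; simp only [Pi.smul_apply, smul_eq_mul, RingHom.id_apply]; ring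

theorem sl_apply (j : Fin 7) (v : Fin 7 → R) (i : Fin 7) : sl j v i = v i - (CM j i : R) * v j := rfl

theorem sl_sl (j : Fin 7) (v : Fin 7 → R) : sl j (sl j v) = v := by
  funext i
  rw [sl_apply, sl_apply, sl_apply, ← car_tab j j, cartan_self j j.2]
  push_cast
  ring

/-- the Weyl group -/
def sL (w : List (Fin 7)) : (Fin 7 → R) →ₗ[R] (Fin 7 → R) := w.foldr (fun i f => sl i ∘ₗ f) LinearMap.id

theorem sL_cons (j : Fin 7) (w : List (Fin 7)) (v : Fin 7 → R) : sL (j :: w) v = sl j (sL w v) := rfl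

theorem sL_append (w w' : List (Fin 7)) (v : Fin 7 → R) : sL (w ++ w') v = sL w (sL w' v) := by
  induction w with
  | nil => rfl
  | cons j w ih => rw [List.cons_append, sL_cons, sL_cons, ih]

theorem eq_zero_of_sL {w : List (Fin 7)} {v : Fin 7 → R} (h : sL w v = 0) : v = 0 := by
  induction w with
  | nil => exact h
  | cons j w ih => exact ih (by rw [← sl_sl j (sL w v), ← sL_cons, h, map_zero])

theorem sL_map (φ : R →+ R') (w : List (Fin 7)) (v : Fin 7 → R) : sL w (fun i => φ (v i)) = fun i => φ (sL w v i) := by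
  induction w with
  | nil => rfl
  | cons j w ih =>
    funext i
    rw [sL_cons, ih, sL_cons, sl_apply, sl_apply, map_sub, map_cast_mul]

theorem pR_sl {r : ℕ} (hr : r < 126) (j : Fin 7) (v : Fin 7 → R) : pR r (sl j v) = pR (chevE7.reflectRoot j r) v := by
  simp only [pR, sl_apply, (rt_refl j r hr).2, car_eq hr j, mul_sub, Finset.sum_sub_distrib]
  push_cast
  simp only [sub_mul, Finset.sum_sub_distrib, ite_mul, zero_mul, Finset.sum_ite_eq', Finset.mem_univ, if_true,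
    Finset.sum_mul, mul_assoc]

theorem sl_rc {r : ℕ} (hr : r < 126) (j : Fin 7) :
    sl j (fun i => (rc r i : R)) = fun i => (rc (chevE7.reflectRoot j r) i : R) := by
  funext i
  rw [sl_apply, rc, rc, rc, chk_refl j j.2 r hr i i.2, car_tab, CM_symm]
  push_cast
  ring

/-- the roots with `S` span -/
def Rk7 (S : ℕ → Prop) : Prop := ∀ ζ : E, (∀ r < 126, S r → bf ζ (rv r) = 0) → ζ = 0

theorem Rk7.mono {S S' : ℕ → Prop} (h : Rk7 S) (h' : ∀ r < 126, S r → S' r) : Rk7 S' :=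
  fun ζ hζ => h ζ fun r hr hs => hζ r hr (h' r hr hs)

/-- it suffices to test integral cocharacters -/
theorem rk7_of_int {S : ℕ → Prop} (h : ∀ l : Fin 7 → ℤ, (∀ r < 126, S r → ∑ i, rc r i * l i = 0) → l = 0) : Rk7 S := by
  intro ζ hζ
  obtain ⟨m, hm⟩ := exists_int (fun r : Fin 126 => rc r) ζ
  have h1 : m = 0 := h m fun r hr hs => by exact_mod_cast (bf_lE m _).symm.trans ((hm ⟨r, hr⟩).1 (hζ r hr hs))
  have h2 : ∀ r < 126, bf ζ (rv r) ≤ 0 := fun r hr => not_lt.1 fun h3 => by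
    have h4 := (hm ⟨r, hr⟩).2 h3
    rw [bf_lE, h1] at h4
    simp at h4
  funext i
  have h3 := simple_lt7 i i.2
  have h4 := h2 _ h3
  have h5 := h2 (125 - chevE7.simple i) (by omega)
  rw [rv_neg h3, map_neg] at h5
  exact (bf_al ζ i).symm.trans (le_antisymm h4 (neg_nonpos.1 h5))

theorem rk7_sL {ι : Type*} {f : ι → Fin 7 → R} (h : Rk7 fun r => ∀ i, pR r (f i) = 0) (w : List (Fin 7)) :
    Rk7 fun r => ∀ i, pR r (sL w (f i)) = 0 := by
  induction w with
  | nil => exact h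
  | cons j w ih =>
    intro ζ hζ
    rw [← sr_sr j ζ, ih (sr j ζ) fun r hr hs => ?_, map_zero]
    rw [← sr_iso j, sr_sr, sr_rv j hr]
    exact hζ _ (rt_refl j r hr).1 fun i => by rw [← pR_sl hr, sL_cons, sl_sl, hs]

end W

/-! ### the alcove -/

theorem exists_alcove {N : ℕ} (hN : 0 < N) (v : Fin 7 → ZMod N) :
    ∃ (w : List (Fin 7)) (y : Fin 7 → ℕ), (sL w v = fun i => (y i : ZMod N)) ∧ ∑ i, mk i * y i ≤ N := by
  obtain ⟨y, ⟨w, hw⟩, h⟩ := H944.Kac.exists_alcove H944.E7Two.e7T hN _ _ 36 (by norm_num) H944.E7Two.theta7 (by decide) _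
    H944.E7Two.pos7 (fun x => ∃ w, sL w v = x) (fun x j ⟨w, hw⟩ => ⟨j :: w, by
      funext i
      rw [sL_cons, hw, sl_apply, ← car_tab]
      rfl⟩) ⟨[], rfl⟩
  refine ⟨w, y, hw, ?_⟩
  simp only [Fin.sum_univ_seven, mk, Matrix.cons_val] at h ⊢
  omega

theorem ker_alc {N : ℕ} {y : Fin 7 → ℕ} (h : ∑ i, mk i * y i ≤ N) {r : ℕ} (hr : r < 126)
    (h0 : pR r (fun i => (y i : ZMod N)) = 0) :
    ∃ ε : ℤ, (∀ j, y j ≠ 0 → rt chevE7 r j = ε * mk j) ∧ (∑ i, mk i * y i ≠ N → ε = 0) := by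
  have h1 : (N : ℤ) ∣ ∑ i : Fin 7, rt chevE7 r i * y i := by
    rw [← ZMod.intCast_zmod_eq_zero_iff_dvd, ← h0]
    simp [pR]
  have key : ∀ a : Fin 7 → ℤ, (∀ i, 0 ≤ a i ∧ a i ≤ mk i) → (N : ℤ) ∣ ∑ i, a i * y i →
      ∃ ε : ℤ, (∀ j, y j ≠ 0 → a j = ε * mk j) ∧ (∑ i, mk i * y i ≠ N → ε = 0) := fun a ha hd => by
    have b1 : ∀ i ∈ Finset.univ, 0 ≤ a i * y i := fun i _ => mul_nonneg (ha i).1 (Nat.cast_nonneg _)
    have b2 : ∀ i ∈ Finset.univ, 0 ≤ (mk i - a i) * y i := fun i _ => mul_nonneg (sub_nonneg.2 (ha i).2) (Nat.cast_nonneg _)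
    have b3 : ∑ i, (mk i - a i) * y i = ((∑ i, mk i * y i : ℕ) : ℤ) - ∑ i, a i * y i := by
      push_cast
      simp only [sub_mul, Finset.sum_sub_distrib]
    have b4 := Finset.sum_nonneg b2
    rcases (Finset.sum_nonneg b1).eq_or_lt with b5 | b5
    · exact ⟨0, fun j hj => by
        simpa [hj] using (Finset.sum_eq_zero_iff_of_nonneg b1).1 b5.symm j (Finset.mem_univ j), fun _ => rfl⟩
    · have b6 := Int.le_of_dvd b5 hd
      refine ⟨1, fun j hj => ?_, fun h2 => by omega⟩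
      have b7 := (Finset.sum_eq_zero_iff_of_nonneg b2).1 (by omega) j (Finset.mem_univ j)
      simp only [mul_eq_zero, Nat.cast_eq_zero, hj, or_false] at b7
      omega
  rcases rt_bd r hr with h2 | h2
  · exact key _ h2 h1
  · obtain ⟨ε, h3, h4⟩ := key (fun i => -rt chevE7 r i) (fun i => ⟨neg_nonneg.2 (h2 i).1, (h2 i).2⟩) (by
      simpa only [neg_mul, Finset.sum_neg_distrib, dvd_neg] using h1)
    exact ⟨-ε, fun j hj => by rw [neg_mul, ← h3 j hj, neg_neg], fun h5 => by rw [h4 h5, neg_zero]⟩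

theorem mk_pos : ∀ i, 0 < mk i ∧ mk i ≤ 4 := by decide

/-- **ALC** -/
theorem alc {N : ℕ} (hN : 0 < N) {v : Fin 7 → ZMod N} (h : Rk7 fun r => pR r v = 0) :
    ∃ (w : List (Fin 7)) (i : Fin 7) (s : ℕ), s * mk i = N ∧ sL w v = Pi.single i (s : ZMod N) := by
  obtain ⟨w, y, hw, hy⟩ := exists_alcove hN v
  have h1 := rk7_sL (f := fun _ : Unit => v) (h.mono fun r _ hs _ => hs) w
  rw [hw] at h1
  by_cases h2 : ∑ i, mk i * y i = N
  · obtain ⟨i, -, hi⟩ := Finset.exists_ne_zero_of_sum_ne_zero (h2.trans_ne hN.ne')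
    have h3 : ∀ j, j ≠ i → y j = 0 := fun j hj => by
      by_contra h4
      have h5 := h1 (Pi.single i (mk j : ℝ) - Pi.single j (mk i : ℝ)) fun r hr hs => by
        obtain ⟨ε, h6, -⟩ := ker_alc hy hr (hs ())
        rw [← pR_real hr, pR_sub, pR_single, pR_single, h6 i (right_ne_zero_of_mul hi), h6 j h4]
        push_cast
        ring
      have h6 := congrFun h5 i
      rw [Pi.sub_apply, Pi.single_eq_same, Pi.single_eq_of_ne hj.symm, sub_zero, Pi.zero_apply, Nat.cast_eq_zero] at h6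
      exact (mk_pos j).1.ne' h6
    refine ⟨w, i, y i, ?_, hw.trans (funext fun j => ?_)⟩
    · rw [← h2, Finset.sum_eq_single i (fun j _ hj => by rw [h3 j hj, mul_zero]) (by simp), mul_comm]
    · by_cases h4 : j = i
      · rw [h4, Pi.single_eq_same]
      · rw [Pi.single_eq_of_ne h4, h3 j h4, Nat.cast_zero]
  · have h3 := h1 (fun i => (y i : ℝ)) fun r hr hs => by
      obtain ⟨ε, h4, h5⟩ := ker_alc hy hr (hs ())
      rw [← pR_real hr]
      refine Finset.sum_eq_zero fun j _ => ?_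
      by_cases h6 : y j = 0
      · simp [h6]
      · rw [h4 j h6, h5 h2, zero_mul, Int.cast_zero, zero_mul]
    refine ⟨w, 6, N, mul_one N, hw.trans (funext fun j => ?_)⟩
    rw [Nat.cast_eq_zero.1 (congrFun h3 j), ZMod.natCast_self, Pi.single_zero, Nat.cast_zero, Pi.zero_apply]

theorem alc_four {N : ℕ} (hN : 0 < N) {y : Fin 7 → ℤ} (h : Rk7 fun r => (N : ℤ) ∣ pc r y) :
    ∃ m : ℕ, 0 < m ∧ m ≤ 4 ∧ ∀ j, (N : ℤ) ∣ m * y j := by
  obtain ⟨w, i, s, h1, h2⟩ := alc hN (v := fun i => (y i : ZMod N)) (h.mono fun r _ hs =>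
    (pR_map (Int.castAddHom _) r y).trans ((ZMod.intCast_zmod_eq_zero_iff_dvd _ _).2 hs))
  refine ⟨mk i, (mk_pos i).1, (mk_pos i).2, fun j => ?_⟩
  have h3 := congrFun (eq_zero_of_sL (w := w) (v := (mk i : ZMod N) • fun i => (y i : ZMod N)) (by
    rw [map_smul, h2, ← Pi.single_smul, smul_eq_mul, ← Nat.cast_mul, mul_comm, h1, ZMod.natCast_self, Pi.single_zero])) j
  rw [← ZMod.intCast_zmod_eq_zero_iff_dvd]
  push_cast
  exact h3

/-- **ALC** for real coweights -/
theorem alc_real {β : E} {n : ℝ} (hn : n ≠ 0) (h : Rk7 fun r => ∃ z : ℤ, bf β (rv r) = z * n) :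
    ∃ m : ℕ, 0 < m ∧ m ≤ 4 ∧ ∀ j, ∃ z : ℤ, m * β j = z * n := by
  obtain ⟨φ, hφ⟩ := (Algebra.linearMap ℚ ℝ).exists_leftInverse_of_injective
    (LinearMap.ker_eq_bot.2 (algebraMap ℚ ℝ).injective)
  have h1 : ∀ z : ℤ, φ z = z := fun z => by simpa using LinearMap.congr_fun hφ (z : ℚ)
  have h2 : ∀ r < 126, ∀ z : ℤ, bf β (rv r) = z * n → pR r (n⁻¹ • β) = z := fun r hr z hz => by
    rw [pR_smul, pR_real hr, hz, mul_comm, mul_inv_cancel_right₀ hn]
  have h3 := h ((n⁻¹ • β) - fun i => ((φ ((n⁻¹ • β) i) : ℚ) : ℝ)) fun r hr ⟨z, hz⟩ => by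
    have h4 := pR_map ((Rat.castHom ℝ).toAddMonoidHom.comp φ.toAddMonoidHom) r (n⁻¹ • β)
    rw [← pR_real hr, pR_sub, sub_eq_zero]
    refine Eq.trans ?_ h4.symm
    rw [h2 r hr z hz]
    change _ = ((φ z : ℚ) : ℝ)
    rw [h1, Rat.cast_intCast]
  obtain ⟨d, hd⟩ := IsLocalization.exist_integer_multiples_of_finite (nonZeroDivisors ℤ) fun i => φ ((n⁻¹ • β) i)
  choose y hy using hd
  have hd0 : (d : ℤ) ≠ 0 := nonZeroDivisors.coe_ne_zero d
  have h4 : (fun i => (y i : ℝ)) = ((d : ℤ) : ℝ) • n⁻¹ • β := funext fun i => by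
    have h5 := congrArg (Rat.cast : ℚ → ℝ) (hy i)
    rw [eq_intCast, zsmul_eq_mul] at h5
    rw [Pi.smul_apply, sub_eq_zero.1 (congrFun h3 i)]
    rw [Rat.cast_mul, Rat.cast_intCast] at h5
    exact (Rat.cast_intCast _).symm.trans h5
  obtain ⟨m, m1, m2, m3⟩ := alc_four (Int.natAbs_pos.2 hd0) (y := y) (h.mono fun r hr ⟨z, hz⟩ => by
    have h5 := pR_map (Int.castAddHom ℝ) r y
    rw [Int.natAbs_dvd]
    refine ⟨z, Int.cast_injective (α := ℝ) (h5.symm.trans ?_)⟩
    change pR r (fun i => (y i : ℝ)) = _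
    rw [h4, pR_smul, h2 r hr z hz, Int.cast_mul])
  refine ⟨m, m1, m2, fun j => ?_⟩
  obtain ⟨z, hz⟩ := Int.natAbs_dvd.1 (m3 j)
  have h5 := congrArg (Int.cast : ℤ → ℝ) hz
  have h6 : ((d : ℤ) : ℝ) ≠ 0 := Int.cast_ne_zero.2 hd0
  rw [Int.cast_mul, Int.cast_mul, congrFun h4 j, Int.cast_natCast] at h5
  refine ⟨z, mul_left_cancel₀ h6 ?_⟩
  simp only [Pi.smul_apply, smul_eq_mul] at h5
  field_simp at h5
  linear_combination ((d : ℤ) : ℝ) * h5

/-! ### toral elements -/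

variable {K : Type u} [Field K]

/-- the values of the simple roots -/
def vals (l : Fin 7 → K) : Fin 7 → K := fun i => rval (chevE7.simple i) (tv l)

theorem rval_tv (r : ℕ) (l : Fin 7 → K) : rval r (tv l) = ∑ i : Fin 7, (chevE7.cartan i r : K) * l i := rfl

theorem vals_apply (l : Fin 7 → K) (j : Fin 7) : vals l j = ∑ i, (CM i j : K) * l i := by
  simp only [vals, rval_tv, car_tab]

theorem rval_eq {r : ℕ} (hr : r < 126) (l : Fin 7 → K) : rval r (tv l) = pR r (vals l) := by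
  simp only [rval_tv, pR, vals_apply, car_eq hr, Finset.mul_sum]
  rw [Finset.sum_comm]
  push_cast
  simp only [Finset.sum_mul, mul_assoc]

theorem vals_sub (l l' : Fin 7 → K) : vals (l - l') = vals l - vals l' := by
  funext j
  simp only [Pi.sub_apply, vals_apply, mul_sub, Finset.sum_sub_distrib]

theorem vals_smul (a : K) (l : Fin 7 → K) : vals (a • l) = a • vals l := by
  funext j
  simp only [Pi.smul_apply, vals_apply, smul_eq_mul, Finset.mul_sum, mul_left_comm]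

theorem vals_eq_zero (h2 : (2 : K) ≠ 0) {l : Fin 7 → K} (h : vals l = 0) : l = 0 :=
  cartan_inj h2 fun i => (Finset.sum_congr rfl fun j _ =>
    congrArg (fun z : ℤ => (z : K) * l j) ((car_tab i j).trans (CM_symm i j))).trans
    ((vals_apply l i).symm.trans (congrFun h i))

theorem vals_inj (h2 : (2 : K) ≠ 0) {l l' : Fin 7 → K} (h : vals l = vals l') : l = l' :=
  sub_eq_zero.1 (vals_eq_zero h2 (by rw [vals_sub, h, sub_self]))

theorem tv_smul (a : K) (l : Fin 7 → K) : tv (a • l) = a • tv l := by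
  funext i
  rcases i with i | r
  · rfl
  · exact (mul_zero a).symm

theorem tv_sub (l l' : Fin 7 → K) : tv (l - l') = tv l - tv l' := by
  funext i
  rcases i with i | r
  · rfl
  · exact (sub_zero 0).symm

theorem tv_single (j : Fin 7) : tv (Pi.single j (1 : K)) = Pi.single (Sum.inl j) 1 := by
  funext i
  rcases i with i | r
  · by_cases h : i = j
    · rw [h]
      exact (Pi.single_eq_same j 1).trans (Pi.single_eq_same (M := fun _ : chevE7.Idx => K) _ 1).symm
    · exact (Pi.single_eq_of_ne h 1).trans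
        (Pi.single_eq_of_ne (M := fun _ : chevE7.Idx => K) (fun e => h (Sum.inl_injective e)) 1).symm
  · exact (Pi.single_eq_of_ne (M := fun _ : chevE7.Idx => K) Sum.inr_ne_inl 1).symm

theorem cor_neg : ∀ j i : Fin 7, (chevE7.coroot.getD (125 - chevE7.simple j) #[]).getD i 0 = if i = j then -1 else 0 := by
  decide +kernel

theorem Hd_neg (j : Fin 7) : R2.PX.Hd K (125 - chevE7.simple j) = -R2.PX.Hi K j := by
  refine (R2.PX.Hd_eq _).trans ?_
  change ∑ i : Fin 7, (((chevE7.coroot.getD (125 - chevE7.simple j) #[]).getD i 0 : ℤ) : K) • R2.PX.Hi K i = _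
  simp only [cor_neg]
  simp

theorem vals_refl (j : Fin 7) (l : Fin 7 → K) : vals (l - vals l j • Pi.single j 1) = sl j (vals l) := by
  funext i
  rw [vals_sub, vals_smul, sl_apply, Pi.sub_apply, Pi.smul_apply, vals_apply (Pi.single j 1), smul_eq_mul, mul_comm]
  simp [Pi.single_apply]

theorem adM_ns_tv (j : Fin 7) (l : Fin 7 → K) : adM K (ns K j) *ᵥ tv l = tv (l - vals l j • Pi.single j 1) := by
  have hs := simple_lt7 j j.2
  have hs' : 125 - chevE7.simple j < 126 := by omega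
  have h1 : adM K (xs K (chevE7.simple j) 1) *ᵥ Pi.single (Sum.inr ⟨_, hs⟩) 1 = Pi.single (Sum.inr ⟨_, hs⟩) 1 :=
    Mu.del_injective (by rw [R2.PX.adM_xs, R2.PX.del_x_self hs, R2.PX.del_inr])
  have h2 : adM K (xs K (125 - chevE7.simple j) (-1)) *ᵥ Pi.single (Sum.inr ⟨_, hs⟩) 1 =
      Pi.single (Sum.inr ⟨_, hs⟩) 1 + tv (Pi.single j 1) - Pi.single (Sum.inr ⟨_, hs'⟩) 1 := Mu.del_injective (by
    have h3 := R2.PX.del_x_neg hs' (-1 : K)
    simp only [sub_sub_r hs] at h3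
    rw [R2.PX.adM_xs, h3, map_sub, map_add, tv_single, R2.PX.del_inr, R2.PX.del_inr, Hd_neg]
    erw [R2.PX.del_inl]
    simp)
  have h3 : rval (125 - chevE7.simple j) (tv l) = -vals l j := by
    simp only [vals, rval_tv, fun i : Fin 7 => chk_neg _ hs i i.2, Int.cast_neg, neg_mul, Finset.sum_neg_distrib]
  have h4 : rval (chevE7.simple j) (tv (l - vals l j • Pi.single j 1)) = -vals l j := by
    refine (congrFun (vals_refl j l) j).trans ?_
    rw [sl_apply, ← car_tab, cartan_self j j.2]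
    push_cast
    ring
  have h5 := adM_xs_tv hs 1 (l - vals l j • Pi.single j 1)
  rw [h4, tv_sub, tv_smul, mulVec_sub, mulVec_smul] at h5
  rw [ns_eq, map_mul, map_mul, ← mulVec_mulVec, ← mulVec_mulVec, adM_xs_tv hs, mulVec_sub, mulVec_smul, adM_xs_tv hs', h2, h3,
    tv_sub, tv_smul]
  simp only [mulVec_sub, mulVec_add, mulVec_smul, h1]
  change _ - (1 * vals l j) • _ = _
  linear_combination (norm := module) h5

/-- the Weyl group on the toral elements -/
theorem adM_nL_tv (w : List (Fin 7)) (l : Fin 7 → K) : ∃ l', adM K (nL K w) *ᵥ tv l = tv l' ∧ vals l' = sL w (vals l) := by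
  induction w with
  | nil => exact ⟨l, by rw [nL_nil, map_one, one_mulVec], rfl⟩
  | cons j w ih =>
    obtain ⟨l', h1, h2⟩ := ih
    exact ⟨_, by rw [nL_cons, map_mul, ← mulVec_mulVec, h1, adM_ns_tv], by rw [vals_refl, h2, sL_cons]⟩

theorem exists_addHom (p : ℕ) [Fact p.Prime] [CharP K p] {a : K} (h : a ≠ 0) : ∃ φ : K →+ ZMod p, φ a ≠ 0 := by
  let _ := ZMod.algebra K p
  by_contra h1
  push Not at h1
  exact h ((forall_dual_apply_eq_zero_iff (ZMod p) a).1 fun φ => h1 φ.toAddMonoidHom)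

/-- the coweight `ω₃` -/
def t3 (K : Type u) [Field K] : Fin 7 → K := ![3, 4, 6, 8, 6, 4, 2]

theorem vals_t3 : vals (t3 K) = Pi.single 2 1 := by
  funext j
  rw [vals_apply]
  fin_cases j <;> simp [Fin.sum_univ_seven, CM, t3] <;> norm_num

/-- the coordinates of the root system `A₅ A₂` -/
def pot : Fin 9 → Fin 7 → ℤ := ![0, ![0, 1, 0, 0, 0, 0, 0], ![0, 1, 0, 1, 0, 0, 0], ![0, 1, 0, 1, 1, 0, 0],
  ![0, 1, 0, 1, 1, 1, 0], ![0, 1, 0, 1, 1, 1, 1], 0, ![2, 2, 3, 4, 3, 2, 1], ![1, 2, 3, 4, 3, 2, 1]]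

theorem chk_pot : ∀ r < 126, 3 ∣ rt chevE7 r 2 → ∃ a b : Fin 9, ∀ j : Fin 7, rt chevE7 r j = pot a j - pot b j := by
  (open scoped Cfsg.Agent.ChevFast.Lin in decide +kernel)

theorem a2a5 {u : Fin 7 → K} (h : Rk7 fun r => 3 ∣ rt chevE7 r 2 ∧ pR r u = 0) : u = Pi.single 2 (u 2) := by
  classical
  obtain ⟨T, hT⟩ : ∃ T : Fin 9 → ℝ, ∀ a, T a = if ∑ j, (pot a j : K) * u j = 0 then 0 else 1 := ⟨_, fun _ => rfl⟩
  obtain ⟨ζ, h1⟩ : ∃ ζ : E, ∀ a, ∑ j, (pot a j : ℝ) * ζ j = T a := by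
    have h0 : T 0 = 0 := by simp [hT, pot]
    have h6 : T 6 = 0 := by simp [hT, pot]
    refine ⟨![T 7 - T 8, T 1, (2 * T 8 - T 7 + 2 * T 1 - T 2 - T 3 - T 4 - T 5) / 3, T 2 - T 1, T 3 - T 2, T 4 - T 3,
      T 5 - T 4], fun a => ?_⟩
    fin_cases a <;> simp [pot, Fin.sum_univ_seven, h0, h6] <;> ring
  have h2 := h ζ fun r hr ⟨h3, h4⟩ => by
    obtain ⟨a, b, h5⟩ := chk_pot r hr h3
    rw [← pR_real hr]
    simp only [pR, h5, Int.cast_sub, sub_mul, Finset.sum_sub_distrib] at h4 ⊢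
    rw [h1, h1, hT, hT, sub_eq_zero.1 h4, sub_self]
  have h3 : ∀ a, ∑ j, (pot a j : K) * u j = 0 := fun a => by
    by_contra h4
    simpa [h2, hT, h4] using h1 a
  have a1 := h3 1
  have a2 := h3 2
  have a3 := h3 3
  have a4 := h3 4
  have a5 := h3 5
  have a7 := h3 7
  have a8 := h3 8
  simp [pot, Fin.sum_univ_seven] at a1 a2 a3 a4 a5 a7 a8
  funext j
  fin_cases j <;> simp
  · linear_combination a7 - a8
  · exact a1
  · linear_combination a2 - a1
  · linear_combination a3 - a2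
  · linear_combination a4 - a3
  · linear_combination a5 - a4

theorem w42 : sL [2, 3, 4, 5, 6, 0, 2, 3, 4, 5, 1, 3, 4, 2, 3, 0, 2, 1, 3, 4] (Pi.single 4 1 : Fin 7 → ZMod 3) =
    Pi.single 2 1 := by decide +kernel

theorem mk_three : ∀ i, mk i = 3 → i = 2 ∨ i = 4 := by decide

/-- **toral subspaces on which seven independent roots vanish** -/
theorem tor7 {p : ℕ} (hp : p.Prime) [CharP K p] (h2 : (2 : K) ≠ 0) {C : Submodule K (Fin 7 → K)} (hC : C ≠ ⊥)
    (h : Rk7 fun r => ∀ l ∈ C, rval r (tv l) = 0) :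
    p = 3 ∧ ∃ w, ∀ l ∈ C, ∃ c : K, adM K (nL K w) *ᵥ tv l = c • tv (t3 K) := by
  have := Fact.mk hp
  obtain ⟨l0, hl0, h0⟩ := (Submodule.ne_bot_iff C).1 hC
  obtain ⟨i0, hi0⟩ := Function.ne_iff.1 fun e => h0 (vals_eq_zero h2 e)
  obtain ⟨φ, hφ⟩ := exists_addHom p hi0
  obtain ⟨w, i, s, h1, h3⟩ := alc hp.pos (v := fun i => φ (vals l0 i)) (h.mono fun r hr hs => by
    rw [pR_map, ← rval_eq hr, hs l0 hl0, map_zero])
  obtain ⟨rfl, h4⟩ : s = 1 ∧ mk i = p := by
    rcases hp.eq_one_or_self_of_dvd s ⟨_, h1.symm⟩ with rfl | rfl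
    · exact ⟨rfl, by simpa using h1⟩
    · rw [ZMod.natCast_self, Pi.single_zero] at h3
      exact absurd (congrFun (eq_zero_of_sL h3) i0) hφ
  obtain rfl : p = 3 := by
    have h5 := mk_pos i
    have h6 : p ≠ 2 := by
      rintro rfl
      exact h2 (CharP.cast_eq_zero K 2)
    have h7 : p ≠ 4 := by
      rintro rfl
      exact absurd hp (by norm_num)
    have := hp.two_le
    omega
  obtain ⟨w', h5⟩ : ∃ w', sL w' (fun i => φ (vals l0 i)) = Pi.single 2 1 := by
    rw [Nat.cast_one] at h3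
    rcases mk_three i h4 with rfl | rfl
    · exact ⟨w, h3⟩
    · exact ⟨_ ++ w, by rw [sL_append, h3, w42]⟩
  refine ⟨rfl, w', fun l hl => ?_⟩
  obtain ⟨l', h6, h7⟩ := adM_nL_tv w' l
  have h8 := a2a5 (u := vals l') ((rk7_sL (f := fun x : C => vals x.1) (h.mono fun r hr hs x => by
    rw [← rval_eq hr, hs x.1 x.2]) w').mono fun r hr hs => ⟨?_, h7 ▸ hs ⟨l, hl⟩⟩)
  · refine ⟨vals l' 2, ?_⟩
    rw [h6, ← tv_smul]
    exact congrArg tv (vals_inj h2 (by rw [vals_smul, vals_t3, ← Pi.single_smul, smul_eq_mul, mul_one, ← h8]))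
  · have h9 := pR_map φ r (sL w' (vals l0))
    rw [hs ⟨l0, hl0⟩, map_zero, ← sL_map, h5, pR_single, mul_one] at h9
    exact (ZMod.intCast_zmod_eq_zero_iff_dvd _ 3).1 h9

theorem arm {a b c z : K} (h6 : (6 : K) ≠ 0) (h1 : a = 0 ∨ 2 * a = b) (h2 : b = 0 ∨ 2 * b = a + c)
    (h3 : c = 0 ∨ 2 * c = b + z) : (∃ k ∈ [(0 : ℤ), 6, 8, 9], 12 * c = k * z ∧ (k = 9 → 4 * a = z ∧ 2 * b = z)) ∧
      (z = 0 → a = 0 ∧ b = 0 ∧ c = 0) := by
  have h4 : ∃ k ∈ [(0 : ℤ), 6, 8, 9], 12 * c = k * z ∧ (k = 9 → 4 * a = z ∧ 2 * b = z) := by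
    rcases h3 with h3 | h3
    · exact ⟨0, by simp, by simp [h3], by simp⟩
    rcases h2 with h2 | h2
    · exact ⟨6, by simp, by push_cast; linear_combination 6 * h3 + 6 * h2, by simp⟩
    rcases h1 with h1 | h1
    · exact ⟨8, by simp, by push_cast; linear_combination 8 * h3 + 4 * h2 + 4 * h1, by simp⟩
    · exact ⟨9, by simp, by push_cast; linear_combination 9 * h3 + 6 * h2 + 3 * h1,
        fun _ => ⟨by linear_combination h3 + 2 * h2 + 3 * h1, by linear_combination h3 + 2 * h2 + h1⟩⟩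
  refine ⟨h4, fun hz => ?_⟩
  obtain ⟨k, -, h5, -⟩ := h4
  have h12 : (36 : K) ≠ 0 := fun e => mul_ne_zero h6 h6 (by linear_combination e)
  have hc : c = 0 := mul_left_cancel₀ h12 (by linear_combination 3 * h5 + 3 * k * hz)
  have hb : b = 0 := mul_left_cancel₀ h6 (by
    rcases h2 with h2 | h2
    · linear_combination 6 * h2
    rcases h1 with h1 | h1
    · linear_combination 3 * h2 + 3 * h1 + 3 * hc
    · linear_combination 4 * h2 + 2 * h1 + 4 * hc)
  refine ⟨mul_left_cancel₀ h6 ?_, hb, hc⟩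
  rcases h1 with h1 | h1
  · linear_combination 6 * h1
  · linear_combination 3 * h1 + 3 * hb

/-- the proper subdiagrams of the extended diagram are nondegenerate -/
theorem ext_diag (h : (5040 : K) ≠ 0) {a : K} {c : Fin 7 → K} (ha : a = 0 ∨ 2 * a = c 0)
    (hc : ∀ i, c i = 0 ∨ ∑ j, (CM i j : K) * c j = if i = 0 then a else 0) (h0 : a = 0 ∨ ∃ i, c i = 0) :
    a = 0 ∧ c = 0 := by
  have h6 : (6 : K) ≠ 0 := fun e => h (by linear_combination 840 * e)
  have c0 := hc 0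
  have c1 := hc 1
  have c2 := hc 2
  have c3 := hc 3
  have c4 := hc 4
  have c5 := hc 5
  have c6 := hc 6
  simp only [Fin.sum_univ_seven, CM, Matrix.cons_val, Fin.reduceEq, if_false] at c0 c1 c2 c3 c4 c5 c6
  norm_num at c0 c1 c2 c3 c4 c5 c6
  obtain ⟨⟨k, k1, k2, k3⟩, k4⟩ := arm (z := c 3) h6 ha (c0.imp_right fun e => by linear_combination e)
    (c2.imp_right fun e => by linear_combination e)
  obtain ⟨⟨m, m1, m2, m3⟩, m4⟩ := arm (z := c 3) h6 (c6.imp_right fun e => by linear_combination e)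
    (c5.imp_right fun e => by linear_combination e) (c4.imp_right fun e => by linear_combination e)
  obtain ⟨n, n1, n2⟩ : ∃ n ∈ [(0 : ℤ), 6], 12 * c 1 = n * c 3 := by
    rcases c1 with e | e
    · exact ⟨0, by simp, by simp [e]⟩
    · exact ⟨6, by simp, by push_cast; linear_combination 6 * e⟩
  have hz : c 3 = 0 := by
    refine c3.elim id fun e => mul_left_cancel₀ h ?_
    rcases (by decide : ∀ k ∈ [(0 : ℤ), 6, 8, 9], ∀ m ∈ [(0 : ℤ), 6, 8, 9], ∀ n ∈ [(0 : ℤ), 6],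
      24 - k - m - n ∣ 5040 ∨ (k = 9 ∧ m = 9 ∧ n = 6)) k k1 m m1 n n1 with ⟨d, hd⟩ | ⟨rfl, rfl, rfl⟩
    · have h1 := congrArg (Int.cast : ℤ → K) hd
      push_cast at h1
      linear_combination c 3 * h1 + d * (12 * e + k2 + m2 + n2)
    · push_cast at k2 m2 n2
      obtain ⟨a1, a2⟩ := k3 rfl
      obtain ⟨b1, b2⟩ := m3 rfl
      rcases h0 with h0 | ⟨i, h0⟩
      · linear_combination -5040 * a1 + 20160 * h0
      fin_cases i <;> simp only [Fin.reduceFinMk] at h0
      · linear_combination -5040 * a2 + 10080 * h0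
      · linear_combination -840 * n2 + 10080 * h0
      · linear_combination -560 * k2 + 6720 * h0
      · linear_combination 5040 * h0
      · linear_combination -560 * m2 + 6720 * h0
      · linear_combination -5040 * b2 + 10080 * h0
      · linear_combination -5040 * b1 + 20160 * h0
  obtain ⟨a1, a2, a3⟩ := k4 hz
  obtain ⟨b1, b2, b3⟩ := m4 hz
  have a4 : c 1 = 0 := mul_left_cancel₀ h (by linear_combination 420 * n2 + 420 * n * hz)
  exact ⟨a1, funext fun i => by fin_cases i <;> assumption⟩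

theorem gram_zmod {p : ℕ} [Fact p.Prime] (h11 : 11 ≤ p) {v : Fin 7 → ZMod p}
    (h : v ∈ Submodule.span (ZMod p) {x | ∃ s < 126, pR s v = 0 ∧ x = fun i => (rc s i : ZMod p)}) : v = 0 := by
  obtain ⟨w, y, hw, hy⟩ := exists_alcove (by omega) v
  refine eq_zero_of_sL (w := w) ?_
  have h1 : sL w v ∈ Submodule.span (ZMod p) {x | ∃ s < 126, pR s (sL w v) = 0 ∧ x = fun i => (rc s i : ZMod p)} := by
    clear hw
    induction w with
    | nil => exact h
    | cons j w ih =>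
      have h2 := Submodule.mem_map_of_mem (f := sl j) ih
      rw [Submodule.map_span] at h2
      refine Submodule.span_mono ?_ h2
      rintro _ ⟨_, ⟨s, s1, s2, rfl⟩, rfl⟩
      exact ⟨_, (rt_refl j s s1).1, by rw [← pR_sl s1, sL_cons, sl_sl, s2], sl_rc s1 j⟩
  rw [hw] at h1 ⊢
  obtain ⟨c, a, h2, h3, h4⟩ : ∃ (c : Fin 7 → ZMod p) (a : ZMod p), (∀ j, y j ≠ 0 → c j = 0) ∧ (∑ i, mk i * y i ≠ p → a = 0) ∧
      ∀ i, (fun i => (y i : ZMod p)) i = ∑ j, (CM i j : ZMod p) * c j - if i = 0 then a else 0 := by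
    refine Submodule.span_induction (p := fun x _ => ∃ (c : Fin 7 → ZMod p) (a : ZMod p), (∀ j, y j ≠ 0 → c j = 0) ∧
      (∑ i, mk i * y i ≠ p → a = 0) ∧ ∀ i, x i = ∑ j, (CM i j : ZMod p) * c j - if i = 0 then a else 0) ?_
      ⟨0, 0, by simp⟩ ?_ ?_ h1
    · rintro _ ⟨s, s1, s2, rfl⟩
      obtain ⟨ε, e1, e2⟩ := ker_alc hy s1 s2
      refine ⟨fun j => ((rt chevE7 s j - ε * mk j : ℤ) : ZMod p), -ε, fun j hj => by simp [e1 j hj],
        fun e => by rw [e2 e, Int.cast_zero, neg_zero], fun i => ?_⟩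
      have e3 := congrArg (Int.cast : ℤ → ZMod p) ((car_top i).symm.trans (car_eq (by norm_num) i))
      simp only [rc, car_eq s1, rt_mk] at e3 ⊢
      push_cast at e3 ⊢
      simp only [mul_comm (CM _ _ : ZMod p), sub_mul, Finset.sum_sub_distrib, mul_assoc, ← Finset.mul_sum, ← e3]
      split_ifs <;> ring
    · rintro x x' - - ⟨c, a, c1, c2, c3⟩ ⟨c', a', d1, d2, d3⟩
      refine ⟨c + c', a + a', fun j hj => by simp [c1 j hj, d1 j hj], fun e => by simp [c2 e, d2 e], fun i => ?_⟩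
      simp only [Pi.add_apply, c3, d3, mul_add, Finset.sum_add_distrib]
      split_ifs <;> ring
    · rintro t x - ⟨c, a, c1, c2, c3⟩
      refine ⟨t • c, t * a, fun j hj => by simp [c1 j hj], fun e => by simp [c2 e], fun i => ?_⟩
      simp only [Pi.smul_apply, smul_eq_mul, c3, mul_left_comm _ t, ← Finset.mul_sum]
      split_ifs <;> ring
  have h5 : ((5040 : ℕ) : ZMod p) ≠ 0 := fun e => by
    have h6 := (ZMod.natCast_eq_zero_iff _ _).1 e
    have h7 := (Fact.out : p.Prime).dvd_factorial.1 (show p ∣ Nat.factorial 7 from h6)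
    omega
  refine (ext_diag (a := a) (c := c) (by exact_mod_cast h5) ?_
    (fun i => (em (y i = 0)).symm.imp (h2 i) fun e => by
      have h6 := h4 i
      simp only [e, Nat.cast_zero] at h6
      exact sub_eq_zero.1 h6.symm) ?_).elim fun h6 h7 => funext fun i => by simpa [h6, h7] using h4 i
  · refine (em _).symm.imp h3 fun e => ?_
    have h6 := congrArg (Nat.cast : ℕ → ZMod p) e
    simp only [ZMod.natCast_self, Nat.cast_sum, Nat.cast_mul] at h6
    simp only [h4, Fin.sum_univ_seven, mk, CM, Matrix.cons_val, Fin.reduceEq, if_false] at h6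
    norm_num at h6
    linear_combination -h6
  · refine (em _).symm.imp h3 fun e => ?_
    obtain ⟨i, -, hi⟩ := Finset.exists_ne_zero_of_sum_ne_zero (e.trans_ne (by omega))
    exact ⟨i, h2 i (right_ne_zero_of_mul hi)⟩

theorem kf_tv (l l' : Fin 7 → K) : kf K (tv l) (tv l') = ∑ i, l' i * vals l i := by
  rw [kf_comm, kf_apply, dotProduct, Fintype.sum_sum_type]
  simp only [tv_inr, zero_mul, Finset.sum_const_zero, add_zero, KM_mulVec_inl]
  exact Finset.sum_congr rfl fun i _ => congrArg (l' i * ·) ((Finset.sum_congr rfl fun j _ =>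
    congrArg (fun z : ℤ => (z : K) * l j) ((car_tab i j).trans (CM_symm i j))).trans (vals_apply l i).symm)

/-- **GRAM** -/
theorem gram {p : ℕ} (hp : p.Prime) [CharP K p] (h11 : 11 ≤ p) {l : Fin 7 → K}
    (h : ∀ l', (∀ r < 126, rval r (tv l) = 0 → rval r (tv l') = 0) → kf K (tv l) (tv l') = 0) : l = 0 := by
  have := Fact.mk hp
  have h1 : vals l ∈ Submodule.span K {x | ∃ s < 126, pR s (vals l) = 0 ∧ x = fun i => (rc s i : K)} := by
    by_contra h2
    obtain ⟨f, f1, f2⟩ := Submodule.exists_dual_map_eq_bot_of_notMem h2 inferInstance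
    have f3 : ∀ x, f x = ∑ i, x i * f (Pi.single i 1) := fun x => by
      conv_lhs => rw [pi_eq_sum_univ' x]
      simp only [map_sum, map_smul, smul_eq_mul]
    refine f1 (((f3 _).trans ?_).trans (h (fun i => f (Pi.single i 1)) fun r hr h3 => (f3 _).symm.trans ?_))
    · rw [kf_tv]
      exact Finset.sum_congr rfl fun i _ => mul_comm _ _
    · exact (Submodule.eq_bot_iff _).1 f2 _ (Submodule.mem_map_of_mem (Submodule.subset_span ⟨r, hr, rval_eq hr l ▸ h3, rfl⟩))
  refine vals_eq_zero (fun e => ?_) (funext fun i => ?_)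
  · have h2 := Nat.le_of_dvd two_pos ((CharP.cast_eq_zero_iff K p 2).1 e)
    omega
  by_contra h2
  obtain ⟨φ, hφ⟩ := exists_addHom p h2
  refine hφ (congrFun (gram_zmod h11 (v := fun i => φ (vals l i)) (Submodule.span_mono
    (s := {x | ∃ s < 126, pR s (vals l) = 0 ∧ x = fun i => (rc s i : ZMod p)}) ?_ ?_)) i)
  · rintro _ ⟨s, s1, s2, rfl⟩
    exact ⟨s, s1, by rw [pR_map, s2, map_zero], rfl⟩
  · refine Submodule.span_induction (p := fun x _ => ∀ φ : K →+ ZMod p, (fun i => φ (x i)) ∈ Submodule.span (ZMod p)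
      {x | ∃ s < 126, pR s (vals l) = 0 ∧ x = fun i => (rc s i : ZMod p)}) ?_ (fun φ => ?_) (fun x x' _ _ c c' φ => ?_)
      (fun t x _ c φ => c (φ.comp (AddMonoidHom.mulLeft t))) h1 φ
    · rintro _ ⟨s, s1, s2, rfl⟩ φ
      have h3 : (fun i => φ (rc s i : K)) = φ 1 • fun i => (rc s i : ZMod p) := funext fun i => by
        rw [Pi.smul_apply, smul_eq_mul, mul_comm, ← map_cast_mul, mul_one]
      rw [h3]
      exact Submodule.smul_mem _ _ (Submodule.subset_span ⟨s, s1, s2, rfl⟩)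
    · simp only [Pi.zero_apply, map_zero]
      exact zero_mem _
    · simp only [Pi.add_apply, map_add]
      exact add_mem (c φ) (c' φ)

end Cfsg.Agent.E7P.Lb

private theorem dce_99a8092c061f : _root_.True := by
  try have : _root_.True := by simp only [_root_.Cfsg.Agent.E7P.Lb.CM.eq_1]
  try have : _root_.True := by simp only [_root_.Cfsg.Agent.E7P.Lb.pR.eq_1]
  try have : _root_.True := by simp only [_root_.Cfsg.Agent.E7P.Kf.rc.eq_1]
  try have : _root_.True := by simp only [_root_.Cfsg.Agent.E7P.Lb.vals.eq_1]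
  try have : _root_.True := by simp only [_root_.Cfsg.Agent.E7P.Lb.t3.eq_1]
  try have : _root_.True := by simp only [_root_.Cfsg.Agent.E7P.Lb.mk.eq_1]
  try have : _root_.True := by simp only [_root_.Cfsg.Agent.E7P.Lb.pot.eq_1]
  exact _root_.True.intro
end
end
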