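import Cfsg.Agent.E7P.P2.PeelA_m3
import Cfsg.Agent.Prune
set_option linter.all false
prune_inst 0x7f00000000000000000000000000000000000000000000000000000000000000000000000000000000000000000000000000000000000000000000000000000000000000000000000000000000000000003fffffffffffffffffffffffffffbeffbdffffffff
open scoped Cfsg.Agent.FastGrp

/-!
# S5932, END1: the finite check (helper48)

The `128` label vectors with entries `0, 2`, and the numerical conditions on the multiplicities of the levels.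
-/

set_option autoImplicit false
set_option maxRecDepth 100000

namespace Cfsg.Agent.E7P.En1

open Cfsg Cfsg.Lie Matrix Module
open Cfsg.Agent.ChevalleyStructure.RootVec
open Cfsg.Agent.H943.E7V.Block (D1 rho)
open Cfsg.Agent.R2.T1 Cfsg.Agent.E7P.Kf
open Cfsg.Agent.R2.PX (mmn W56)

/-- twice the coordinates of the roots -/
def RT : List (List ℤ) := (let yq1 : List (List ℤ) := (let yq2 : List (List ℤ) := (let yq3 : List (List ℤ) := (let yq4 : List (List ℤ) := (let yq5 : List (List ℤ) := %[[2, 4, 4, 6, 6, 4, 2], [2, 4, 4, 8, 6, 4, 2], [2, 4, 6, 8, 6, 4, 2], [4, 4, 6, 8,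
  6, 4, 2] | []];
  %[[2, 2, 4, 6, 6, 4, 2], [2, 4, 4, 6, 4, 2, 0], [2, 4, 4,
  6, 4, 2, 2], [2, 4, 4, 6, 4, 4, 2] | yq5]);
  (let yq6 : type_of% yq4 := %[[2, 2, 4, 4, 4, 4, 2], [2, 2,
  4, 6, 4, 2, 0], [2, 2, 4, 6, 4, 2, 2], [2, 2, 4, 6, 4, 4, 2] | yq4];
  %[[2,
  2, 4, 4, 2, 2, 0], [2, 2, 4, 4, 2, 2, 2], [2, 2, 4, 4, 4, 2, 0], [2, 2, 4, 4, 4, 2, 2] | yq6]));
  (let yq7 : type_of% yq3 := (let yq8 : type_of% yq3 := %[[2, 2, 2, 4, 4, 2, 0], [2, 2, 2, 4, 4, 2, 2], [2, 2, 2, 4, 4, 4, 2], [2, 2, 4, 4, 2, 0, 0] | yq3];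
  %[[2, 2, 2, 2, 2, 2, 2], [2, 2, 2, 4, 2, 0, 0], [2, 2, 2, 4, 2, 2, 0],
  [2, 2, 2, 4, 2, 2, 2] | yq8]);
  (let yq9 : type_of% yq7 := %[[2, 0, 2, 2, 2, 2, 2], [2, 2, 2, 2, 0, 0,
  0], [2, 2, 2, 2, 2, 0, 0], [2, 2, 2, 2, 2, 2, 0] | yq7];
  %[[2, 0, 2, 0, 0,
  0, 0], [2, 0, 2, 2, 0, 0, 0], [2, 0, 2, 2, 2, 0, 0], [2, 0, 2, 2, 2, 2, 0] | yq9])));
  (let yq10 : type_of% yq2 := (let yq11 : type_of% yq2 := (let yq12 : type_of% yq2 := %[[0, 2, 2, 4, 4, 2, 0], [0, 2, 2, 4, 4, 2, 2], [0, 2, 2, 4, 4, 4, 2], [2, 0, 0, 0, 0, 0, 0] | yq2];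
  %[[0, 2, 2, 2, 2, 2, 2], [0, 2, 2, 4, 2, 0, 0], [0, 2, 2, 4, 2, 2, 0], [0, 2, 2, 4,
  2, 2, 2] | yq12]);
  (let yq13 : type_of% yq11 := %[[0, 2, 0, 2, 2, 2, 2], [0, 2, 2, 2, 0, 0, 0], [0, 2, 2,
  2, 2, 0, 0], [0, 2, 2, 2, 2, 2, 0] | yq11];
  %[[0, 2, 0, 0, 0, 0, 0], [0, 2,
  0, 2, 0, 0, 0], [0, 2, 0, 2, 2, 0, 0], [0, 2, 0, 2, 2, 2, 0] | yq13]));
  (let yq14 : type_of% yq10 := (let yq15 : type_of% yq10 := %[[0,
  0, 2, 2, 0, 0, 0], [0, 0, 2, 2, 2, 0, 0], [0, 0, 2, 2, 2, 2, 0], [0, 0, 2, 2, 2, 2, 2] | yq10];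
  %[[0, 0, 0, 2, 2, 0, 0], [0, 0, 0, 2, 2, 2, 0], [0, 0, 0, 2, 2, 2, 2], [0, 0, 2, 0, 0, 0, 0] | yq15]);
  %[[0, 0, 0, 0, 0, 0,
  2], [0, 0, 0, 0, 0, 2, 0], [0, 0, 0, 0, 0, 2, 2], [0, 0, 0, 0, 2, 0, 0], [0, 0, 0, 0, 2, 2, 0], [0, 0, 0, 0, 2, 2, 2],
  [0, 0, 0, 2, 0, 0, 0] | yq14])));
  (let yq16 : type_of% yq1 := (let yq17 : type_of% yq1 := (let yq18 : type_of% yq1 := (let yq19 : type_of% yq1 := %[[0, 0, 0, 0, -2, 0, 0], [0, 0, 0, 0, 0, -2, -2], [0, 0, 0, 0, 0, -2, 0], [0, 0, 0, 0, 0, 0, -2] | yq1];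
  %[[0, 0, 0, -2, -2, 0, 0], [0, 0, 0, -2, 0, 0, 0], [0, 0, 0, 0, -2, -2, -2], [0, 0, 0, 0, -2, -2, 0] | yq19]);
  (let yq20 : type_of% yq18 := %[[0, 0, -2, -2, 0, 0, 0], [0, 0, -2, 0, 0, 0, 0], [0, 0, 0, -2, -2, -2, -2], [0, 0,
  0, -2, -2, -2, 0] | yq18];
  %[[0, -2, 0, 0, 0, 0, 0], [0, 0, -2, -2, -2, -2, -2], [0, 0, -2, -2, -2,
  -2, 0], [0, 0, -2, -2, -2, 0, 0] | yq20]));
  (let yq21 : type_of% yq17 := (let yq22 : type_of% yq17 := %[[0, -2, 0, -2, -2, -2, -2], [0, -2, 0, -2, -2, -2, 0], [0,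
  -2, 0, -2, -2, 0, 0], [0, -2, 0, -2, 0, 0, 0] | yq17];
  %[[0, -2, -2, -2, -2, -2, -2], [0, -2, -2, -2, -2, -2,
  0], [0, -2, -2, -2, -2, 0, 0], [0, -2, -2, -2, 0, 0, 0] | yq22]);
  (let yq23 : type_of% yq21 := %[[0, -2, -2, -4, -4, -2, 0], [0, -2, -2, -4, -2,
  -2, -2], [0, -2, -2, -4, -2, -2, 0], [0, -2, -2, -4, -2, 0, 0] | yq21];
  %[[-2, 0, -2, 0, 0, 0, 0], [-2, 0, 0,
  0, 0, 0, 0], [0, -2, -2, -4, -4, -4, -2], [0, -2, -2, -4, -4, -2, -2] | yq23])));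
  (let yq24 : type_of% yq16 := (let yq25 : type_of% yq16 := (let yq26 : type_of% yq16 := %[[-2, 0, -2, -2, -2, -2, -2],
  [-2, 0, -2, -2, -2, -2, 0], [-2, 0, -2, -2, -2, 0, 0], [-2, 0, -2, -2, 0, 0, 0] | yq16];
  %[[-2, -2, -2, -2, -2, -2,
  -2], [-2, -2, -2, -2, -2, -2, 0], [-2, -2, -2, -2, -2, 0, 0], [-2, -2, -2, -2, 0, 0, 0] | yq26]);
  (let yq27 : type_of% yq25 := %[[-2, -2, -2, -4, -4, -2,
  0], [-2, -2, -2, -4, -2, -2, -2], [-2, -2, -2, -4, -2, -2, 0], [-2, -2, -2, -4, -2, 0, 0] | yq25];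
  %[[-2, -2, -4, -4, -2, -2,
  0], [-2, -2, -4, -4, -2, 0, 0], [-2, -2, -2, -4, -4, -4, -2], [-2, -2, -2, -4, -4, -2, -2] | yq27]));
  (let yq28 : type_of% yq24 := (let yq29 : type_of% yq24 := %[[-2, -2, -4, -4, -4, -4,
  -2], [-2, -2, -4, -4, -4, -2, -2], [-2, -2, -4, -4, -4, -2, 0], [-2, -2, -4, -4, -2, -2, -2] | yq24];
  %[[-2, -2, -4, -6, -6, -4,
  -2], [-2, -2, -4, -6, -4, -4, -2], [-2, -2, -4, -6, -4, -2, -2], [-2, -2, -4, -6, -4, -2, 0] | yq29]);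
  %[[-4, -4, -6, -8, -6, -4, -2], [-2, -4, -6, -8, -6, -4, -2], [-2, -4, -4, -8, -6, -4, -2], [-2, -4, -4, -6, -6, -4,
  -2], [-2, -4, -4, -6, -4, -4, -2], [-2, -4, -4, -6, -4, -2, -2], [-2, -4, -4, -6, -4, -2, 0] | yq28]))))

/-- twice the coordinates of the weights -/
def MT : List (List ℤ) := (let yq30 : List (List ℤ) := (let yq31 : List (List ℤ) := (let yq32 : List (List ℤ) := %[[2, 1, 4,
  4, 3, 2, 1], [2, 3, 2, 4, 3, 2, 1], [2, 3, 4, 4, 3, 2, 1], [2, 3, 4, 6, 3, 2, 1], [2, 3, 4, 6, 5, 2, 1], [2, 3, 4, 6,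
  5, 4, 1], [2, 3, 4, 6, 5, 4, 3] | []];
  %[[0, 1, 2, 4, 3, 2, 1], [0, 3, 2, 4, 3, 2, 1], [2, 1,
  2, 2, 1, 0, -1], [2, 1, 2, 2, 1, 0, 1], [2, 1, 2, 2, 1, 2, 1], [2, 1, 2, 2, 3, 2, 1], [2, 1, 2, 4, 3, 2, 1] | yq32]);
  (let yq33 : type_of% yq31 := %[[0, 1, 0, 2, 1, 0, 1], [0, 1, 0, 2, 1, 2, 1], [0, 1, 0, 2, 3, 2, 1], [0, 1, 2, 2, 1, 0, -1], [0,
  1, 2, 2, 1, 0, 1], [0, 1, 2, 2, 1, 2, 1], [0, 1, 2, 2, 3, 2, 1] | yq31];
  %[[0, 1, 0, 0, -1, -2, -1], [0,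
  1, 0, 0, -1, 0, -1], [0, 1, 0, 0, -1, 0, 1], [0, 1, 0, 0, 1, 0, -1], [0, 1, 0, 0, 1, 0, 1], [0, 1, 0, 0, 1, 2, 1], [0,
  1, 0, 2, 1, 0, -1] | yq33]));
  (let yq34 : type_of% yq30 := (let yq35 : type_of% yq30 := %[[0, -1, 0, -2, -1, 0, 1], [0, -1, 0, 0, -1, -2, -1], [0, -1, 0, 0, -1, 0, -1], [0, -1, 0,
  0, -1, 0, 1], [0, -1, 0, 0, 1, 0, -1], [0, -1, 0, 0, 1, 0, 1], [0, -1, 0, 0, 1, 2, 1] | yq30];
  %[[0, -1, -2, -2, -3, -2, -1], [0, -1, -2, -2, -1, -2,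
  -1], [0, -1, -2, -2, -1, 0, -1], [0, -1, -2, -2, -1, 0, 1], [0, -1, 0, -2, -3, -2, -1], [0, -1, 0, -2, -1, -2, -1],
  [0, -1, 0, -2, -1, 0, -1] | yq35]);
  (let yq36 : type_of% yq34 := %[[-2, -1, -2, -4, -3,
  -2, -1], [-2, -1, -2, -2, -3, -2, -1], [-2, -1, -2, -2, -1, -2, -1], [-2, -1, -2, -2, -1, 0, -1], [-2, -1, -2, -2, -1,
  0, 1], [0, -3, -2, -4, -3, -2, -1], [0, -1, -2, -4, -3, -2, -1] | yq34];
  %[[-2, -3, -4, -6, -5, -4, -3], [-2, -3, -4, -6, -5, -4, -1], [-2, -3, -4, -6, -5, -2, -1], [-2, -3, -4, -6, -3, -2,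
  -1], [-2, -3, -4, -4, -3, -2, -1], [-2, -3, -2, -4, -3, -2, -1], [-2, -1, -4, -4, -3, -2, -1] | yq36])))

theorem RT_eq : RT = (List.range 126).map fun r => (List.range 7).map fun i => 2 * rt chevE7 r i := by decide +kernel

theorem MT_eq : MT = W56.map fun s => (List.range 7).map fun i => mmn s i := by decide +kernel

/-- the scalar product -/
def dot (a b : List ℤ) : ℤ := (List.zipWith (· * ·) a b).sum

/-- the levels on the Lie algebra -/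
def LG (b : List ℤ) : List ℤ := [0, 0, 0, 0, 0, 0, 0] ++ RT.map fun r => dot r b

/-- the levels on the 56-dimensional module -/
def LV (b : List ℤ) : List ℤ := MT.map fun r => dot r b

/-- the multiplicity -/
def cnt (L : List ℤ) (d : ℤ) : ℕ := (L.map fun x => if x = d then 1 else 0).sum

/-- the Casimir inequality -/
abbrev Cas (L : List ℤ) (d : ℤ) : Prop := 2 * cnt L d ≤ cnt L (d + 2) + cnt L (d - 2)

/-- the inequality for `d ≠ 0, 1` -/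
abbrev S2 (L : List ℤ) (d : ℤ) : Prop := cnt L d ≤ cnt L (d + 2) + cnt L (d - 4)

/-- the inequality for the module generated by the highest level -/
abbrev A5 (p : ℤ) (G L : List ℤ) (T : ℤ) : Prop :=
  (∀ x ∈ L, x ≤ T) → cnt L (-T) = 1 → (∀ x ∈ G, x < 2 * p + 2) → cnt G 2 ≤ cnt G 4 + cnt L (-T + 2)

/-- the numerical conditions -/
abbrev Num (p : ℤ) (G V : List ℤ) : Prop :=
  (∀ j ∈ ([0, 1, 2, 3, 4, 5, 6] : List ℤ),
    ((5 ≤ p ∨ (0 < j ∧ ∀ x ∈ G, x < 3 * (p * j) - 2) ∨ (j = 0 ∧ ∀ x ∈ G, x < 16)) → Cas G (p * j)) ∧ Cas V (p * j)) ∧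
  (p = 3 → S2 G (-10) ∧ S2 V (-13) ∧ S2 V (-19)) ∧
  (5 ≤ p → A5 p G V 9 ∧ A5 p G V 11 ∧ A5 p G V 15 ∧ A5 p G G 22)

/-- the multiplicities as digits -/
private noncomputable def hs (L : List ℤ) : ℕ :=
  List.rec 0 (fun x _ ih => Nat.add (Nat.pow 257 (Int.toNat (Int.add x 40))) ih) L

/-- a digit -/
private def dg (n : ℕ) (d : ℤ) : ℕ := Nat.mod (Nat.div n (Nat.pow 257 (Int.toNat (Int.add d 40)))) 257

/-- a bound -/
private def bd (n : ℕ) (c : ℤ) : Bool := Nat.blt n (Nat.pow 257 (Int.toNat (Int.add c 40)))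

private theorem hs_cons (x : ℤ) (L : List ℤ) : hs (x :: L) = 257 ^ (x + 40).toNat + hs L := rfl

private theorem hs_dec {d : ℤ} (hd : -40 < d) (L : List ℤ) : ∃ lo hi, hs L = lo + 257 ^ (d + 40).toNat * (cnt L d + 257 * hi) ∧
    257 * lo ≤ L.length * 257 ^ (d + 40).toNat ∧ cnt L d ≤ L.length := by
  induction L with
  | nil => exact ⟨0, 0, rfl, Nat.zero_le _, Nat.le_refl 0⟩
  | cons x L ih =>
    obtain ⟨lo, hi, h1, h2, h3⟩ := ih
    have e : cnt (x :: L) d = (if x = d then 1 else 0) + cnt L d := rfl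
    rw [hs_cons, e, h1, List.length_cons, Nat.add_mul L.length, Nat.one_mul]
    rcases lt_trichotomy x d with h | h | h
    · have h4 : 257 ^ ((x + 40).toNat + 1) ≤ 257 ^ (d + 40).toNat := Nat.pow_le_pow_right (by decide) (by omega)
      rw [if_neg h.ne, Nat.zero_add]
      refine ⟨257 ^ (x + 40).toNat + lo, hi, (Nat.add_assoc _ _ _).symm, ?_, Nat.le_succ_of_le h3⟩
      rw [Nat.pow_succ] at h4
      omega
    · subst h
      rw [if_pos rfl]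
      exact ⟨lo, hi, by ring, Nat.le_add_right_of_le h2, by omega⟩
    · obtain ⟨m, hm⟩ : ∃ m, (x + 40).toNat = (d + 40).toNat + 1 + m := ⟨(x + 40).toNat - ((d + 40).toNat + 1), by omega⟩
      rw [if_neg h.ne', Nat.zero_add, hm]
      exact ⟨lo, hi + 257 ^ m, by ring, Nat.le_add_right_of_le h2, by omega⟩

private theorem cnt_eq {L : List ℤ} (hL : L.length < 257) {d : ℤ} (hd : -40 < d) : cnt L d = dg (hs L) d := by
  obtain ⟨lo, hi, h1, h2, h3⟩ := hs_dec hd L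
  have h0 : 0 < 257 ^ (d + 40).toNat := Nat.pow_pos (by decide)
  have h4 : L.length * 257 ^ (d + 40).toNat ≤ 256 * 257 ^ (d + 40).toNat := Nat.mul_le_mul_right _ (by omega)
  show _ = hs L / 257 ^ (d + 40).toNat % 257
  rw [h1, Nat.add_mul_div_left _ _ h0, Nat.div_eq_of_lt (by omega)]
  omega

private theorem lt_of_bd {L : List ℤ} {c : ℤ} (h : bd (hs L) c = true) : ∀ x ∈ L, x < c := by
  have h1 : hs L < 257 ^ (c + 40).toNat := Nat.blt_eq.mp h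
  clear h
  induction L with
  | nil => exact fun _ hx => absurd hx List.not_mem_nil
  | cons y L ih =>
    rw [hs_cons] at h1
    intro x hx
    rcases List.mem_cons.1 hx with rfl | hx
    · have h2 : 257 ^ (x + 40).toNat < 257 ^ (c + 40).toNat := by omega
      have h3 := (Nat.pow_lt_pow_iff_right (by decide)).1 h2
      omega
    · exact ih (Nat.lt_of_le_of_lt (Nat.le_add_left _ _) h1) x hx

private def cas (l : ℕ) (d : ℤ) : Bool := Nat.ble (Nat.mul 2 (dg l d)) (Nat.add (dg l (d + 2)) (dg l (d - 2)))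

private def s2 (l : ℕ) (d : ℤ) : Bool := Nat.ble (dg l d) (Nat.add (dg l (d + 2)) (dg l (d - 4)))

private def a5 (p : ℤ) (g l : ℕ) (T : ℤ) : Bool :=
  cond (bd l (T + 1)) (cond (Nat.beq (dg l (-T)) 1) (cond (bd g (2 * p + 2))
    (Nat.ble (dg g 2) (Nat.add (dg g 4) (dg l (-T + 2)))) true) true) true

private def hy (p : ℤ) (g : ℕ) (j : ℤ) : Bool :=
  cond (decide (5 ≤ p)) true (cond (decide (j = 0)) (bd g 16) (bd g (3 * (p * j) - 2)))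

private def num (p : ℤ) (g v : ℕ) : Bool :=
  (([0, 1, 2, 3, 4, 5, 6] : List ℤ).all fun j => cond (hy p g j) (cas g (p * j)) true && cas v (p * j)) &&
  (cond (decide (p = 3)) (s2 g (-10) && (s2 v (-13) && s2 v (-19))) true &&
  cond (decide (5 ≤ p)) (a5 p g v 9 && (a5 p g v 11 && (a5 p g v 15 && a5 p g g 22))) true)

private theorem cond_of {b c : Bool} (h : b = true → c = true) : cond b c true = true := by
  cases b
  · rfl
  · exact h rfl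

private theorem cas_of {L : List ℤ} (hL : L.length < 257) {d : ℤ} (hd : 0 ≤ d) (h : Cas L d) : cas (hs L) d = true := by
  rw [cas, ← cnt_eq hL (by omega), ← cnt_eq hL (by omega), ← cnt_eq hL (by omega)]
  exact Nat.ble_eq_true_of_le h

private theorem s2_of {L : List ℤ} (hL : L.length < 257) {d : ℤ} (hd : -20 ≤ d) (h : S2 L d) : s2 (hs L) d = true := by
  rw [s2, ← cnt_eq hL (by omega), ← cnt_eq hL (by omega), ← cnt_eq hL (by omega)]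
  exact Nat.ble_eq_true_of_le h

private theorem a5_of {p : ℤ} {G L : List ℤ} (hG : G.length < 257) (hL : L.length < 257) {T : ℤ} (hT : T ≤ 30)
    (h : A5 p G L T) : a5 p (hs G) (hs L) T = true := by
  refine cond_of fun h1 => cond_of fun h2 => cond_of fun h3 => ?_
  rw [← cnt_eq hL (by omega)] at h2
  rw [← cnt_eq hG (by omega), ← cnt_eq hG (by omega), ← cnt_eq hL (by omega)]
  exact Nat.ble_eq_true_of_le
    (h (fun x hx => Int.lt_add_one_iff.1 (lt_of_bd h1 x hx)) (Nat.eq_of_beq_eq_true h2) (lt_of_bd h3))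

private theorem num_of {p : ℤ} (hp : 0 ≤ p) {G V : List ℤ} (hG : G.length < 257) (hV : V.length < 257) (h : Num p G V) :
    num p (hs G) (hs V) = true := by
  refine Bool.and_eq_true_iff.2 ⟨List.all_eq_true.2 fun j hj => ?_, Bool.and_eq_true_iff.2 ⟨cond_of fun h3 => ?_,
    cond_of fun h5 => ?_⟩⟩
  · have hj0 : 0 ≤ j := (by decide : ∀ j ∈ ([0, 1, 2, 3, 4, 5, 6] : List ℤ), 0 ≤ j) j hj
    have h0 : 0 ≤ p * j := Int.mul_nonneg hp hj0
    refine Bool.and_eq_true_iff.2 ⟨cond_of fun h1 => cas_of hG h0 ((h.1 j hj).1 ?_), cas_of hV h0 (h.1 j hj).2⟩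
    by_cases h5 : 5 ≤ p
    · exact Or.inl h5
    · rw [hy, decide_eq_false h5, cond_false] at h1
      by_cases h6 : j = 0
      · rw [decide_eq_true h6, cond_true] at h1
        exact Or.inr (Or.inr ⟨h6, lt_of_bd h1⟩)
      · rw [decide_eq_false h6, cond_false] at h1
        exact Or.inr (Or.inl ⟨by omega, lt_of_bd h1⟩)
  · obtain ⟨k1, k2, k3⟩ := h.2.1 (of_decide_eq_true h3)
    rw [s2_of hG (by decide) k1, s2_of hV (by decide) k2, s2_of hV (by decide) k3]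
    rfl
  · obtain ⟨k1, k2, k3, k4⟩ := h.2.2 (of_decide_eq_true h5)
    rw [a5_of hG hV (by decide) k1, a5_of hG hV (by decide) k2, a5_of hG hV (by decide) k3, a5_of hG hG (by decide) k4]
    rfl

private noncomputable def fr (x : ℕ) (f : ℕ → Bool) : Bool := Nat.rec (f 0) (fun n _ => f (Nat.succ n)) x

private theorem fr_eq (x : ℕ) (f : ℕ → Bool) : fr x f = f x := by
  cases x <;> rfl

private noncomputable def dt (r : List ℤ) : List ℤ → ℤ :=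
  List.rec (fun _ => 0) (fun a _ ih b => List.rec 0 (fun x b' _ => Int.add (Int.mul a x) (ih b')) b) r

private theorem dt_eq (r : List ℤ) : ∀ b, dot r b = dt r b := by
  induction r with
  | nil => exact fun _ => rfl
  | cons a r ih =>
    intro b
    cases b with
    | nil => rfl
    | cons x b => exact congrArg (fun z => a * x + z) (ih b)

private noncomputable def hm (R : List (List ℤ)) (b : List ℤ) : ℕ :=
  List.rec 0 (fun r _ ih => Nat.add (Nat.pow 257 (Int.toNat (Int.add (dt r b) 40))) ih) R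

private theorem hm_eq (b : List ℤ) (R : List (List ℤ)) : hs (R.map fun r => dot r b) = hm R b := by
  induction R with
  | nil => rfl
  | cons r R ih =>
    rw [List.map_cons, hs_cons, ih, dt_eq]
    rfl

private noncomputable def ck (b : List ℤ) : Bool :=
  fr (hm ([] :: [] :: [] :: [] :: [] :: [] :: [] :: RT) b) fun g => fr (hm MT b) fun v =>
    ([3, 5, 7, 11, 13] : List ℤ).all fun p => !num p g v

theorem chk : ∀ b0 ∈ ([0, 1] : List ℤ), ∀ b1 ∈ ([0, 1] : List ℤ), ∀ b2 ∈ ([0, 1] : List ℤ), ∀ b3 ∈ ([0, 1] : List ℤ),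
    ∀ b4 ∈ ([0, 1] : List ℤ), ∀ b5 ∈ ([0, 1] : List ℤ), ∀ b6 ∈ ([0, 1] : List ℤ), ∀ p ∈ ([3, 5, 7, 11, 13] : List ℤ),
    ¬ Num p (LG [b0, b1, b2, b3, b4, b5, b6]) (LV [b0, b1, b2, b3, b4, b5, b6]) := by
  have h : ∀ b0 ∈ ([0, 1] : List ℤ), ∀ b1 ∈ ([0, 1] : List ℤ), ∀ b2 ∈ ([0, 1] : List ℤ), ∀ b3 ∈ ([0, 1] : List ℤ),
      ∀ b4 ∈ ([0, 1] : List ℤ), ∀ b5 ∈ ([0, 1] : List ℤ), ∀ b6 ∈ ([0, 1] : List ℤ),
      ck [b0, b1, b2, b3, b4, b5, b6] = true := by decide +kernel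
  have hG : ∀ b, (LG b).length < 257 := fun b => by
    delta LG
    rw [List.length_append, List.length_map]
    decide +kernel
  have hV : ∀ b, (LV b).length < 257 := fun b => by
    delta LV
    rw [List.length_map]
    decide +kernel
  intro b0 h0 b1 h1 b2 h2 b3 h3 b4 h4 b5 h5 b6 h6 p hp hN
  have h7 := h b0 h0 b1 h1 b2 h2 b3 h3 b4 h4 b5 h5 b6 h6
  rw [ck, fr_eq, fr_eq, List.all_eq_true, ← hm_eq, ← hm_eq] at h7
  have h8 := num_of ((by decide : ∀ p ∈ ([3, 5, 7, 11, 13] : List ℤ), 0 ≤ p) p hp) (hG _) (hV _) hN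
  exact Bool.noConfusion ((congrArg not h8).symm.trans (h7 p hp))

end Cfsg.Agent.E7P.En1
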